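import Mathlib
import Cfsg.Agent.H145.BR.RowZ

/-!
# S4857, S4858 : the interface (helper685)

* `Good p χ` : the condition on the values in S4857/S4858: rational if `p ≠ 3`, real and `3`-rational if `p = 3`.
* `RatB0 p M G` : the principal block of `G` contains a nontrivial irreducible character with good values.
* `Row57 p S` : **the row** of S4857 (no condition on degrees, no invariance).
* `RowFor57 p C`, `Rows57 p` : the families. No hypothesis on the Sylow subgroups (cyclic ones are included).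
-/

set_option autoImplicit false

open Subgroup

namespace Cfsg.Agent.H685.BR

open Cfsg Cfsg.Agent.H145.BR

universe u v

/-- the condition on the values of the character in S4857/S4858 -/
def Good (p : ℕ) {G : Type u} (χ : G → ℂ) : Prop :=
  (p ≠ 3 → ∀ g : G, ∃ q : ℚ, χ g = (q : ℂ)) ∧ (p = 3 → (∀ g : G, (χ g).im = 0) ∧ PRat p χ)

/-- the principal block contains a nontrivial character with good values -/
def RatB0 (p : ℕ) (M : Ideal AlgInt) (G : Type u) [Group G] : Prop :=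
  ∃ χ : IrrCharacter G, χ ∈ principalBlock M G ∧ (χ : G → ℂ) ≠ (fun _ => (1 : ℂ)) ∧ Good p (χ : G → ℂ)

/-- **the row** of S4857 -/
def Row57 (p : ℕ) (S : Type u) [Group S] : Prop :=
  ∀ M : Ideal AlgInt, IsPModular p M → RatB0 p M S

theorem good_of_rat {p : ℕ} [Fact p.Prime] {G : Type u} {χ : G → ℂ} (h : ∀ g : G, ∃ q : ℚ, χ g = (q : ℂ)) :
    Good p χ := by
  refine ⟨fun _ => h, fun _ => ⟨fun g => ?_, pRat_of_rat h⟩⟩
  obtain ⟨q, hq⟩ := h g
  rw [hq]
  exact Complex.ratCast_im q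

theorem good_of_int {p : ℕ} [Fact p.Prime] {G : Type u} {χ : G → ℂ} (h : ∀ g : G, ∃ k : ℤ, χ g = (k : ℂ)) :
    Good p χ :=
  good_of_rat fun g => by
    obtain ⟨k, hk⟩ := h g
    exact ⟨(k : ℚ), by rw [hk]; push_cast; rfl⟩

/-- for `p = 3` -/
theorem good_of_real_pRat {p : ℕ} (hp : p = 3) {G : Type u} {χ : G → ℂ} (h : ∀ g : G, (χ g).im = 0)
    (h' : PRat p χ) : Good p χ := ⟨fun h3 => absurd hp h3, fun _ => ⟨h, h'⟩⟩

/-- a rational valued nontrivial character in the principal block -/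
theorem row57_of_rowQ {p : ℕ} [Fact p.Prime] {S : Type u} [Group S] (h : RowQ p S) : Row57 p S := by
  intro M hM
  obtain ⟨θ, h1, h2, h3⟩ := h M hM
  exact ⟨θ, h1, h2, good_of_rat h3⟩

theorem row57_of_rowZ {p : ℕ} [Fact p.Prime] {S : Type u} [Group S] (h : RowZ p S) : Row57 p S :=
  row57_of_rowQ h.rowQ

theorem row57_of_rowInt {p : ℕ} [Fact p.Prime] {S : Type u} [Group S] (h : RowInt p S) : Row57 p S :=
  row57_of_rowZ h.rowZ

/-- the row for a family: all nonabelian simple groups `X` of order divisible by `p` with the property `C` -/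
def RowFor57 (p : ℕ) (C : ∀ (X : Type) [Group X], Prop) : Prop :=
  ∀ (X : Type) [Group X] [Finite X] [IsSimpleGroup X], ¬ IsMulCommutative X → p ∣ Nat.card X → C X → Row57 p X

theorem RowFor57.of_Z {p : ℕ} [Fact p.Prime] {C : ∀ (X : Type) [Group X], Prop} (h : RowForZ p C) :
    RowFor57 p C := fun X _ _ _ hna hd hC => row57_of_rowZ (h X hna hd hC)

/-- **the rows of S4857**, `p` odd (`p = 2` is done in general) -/
structure Rows57 (p : ℕ) : Prop where
  alt : RowFor57 p (fun X _ => IsAlternating X)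
  lie : RowFor57 p (fun X _ => IsLieTypeChar p X)
  psl : RowFor57 p (fun X _ => ∃ (F : Type) (_ : Field F) (_ : Fintype F) (n : ℕ), (p : F) ≠ 0 ∧ 2 ≤ n ∧
    Nonempty (X ≃* Matrix.ProjectiveSpecialLinearGroup (Fin n) F))
  psp : RowFor57 p (fun X _ => ∃ (F : Type) (_ : Field F) (_ : Fintype F) (m : ℕ), (p : F) ≠ 0 ∧ 2 ≤ m ∧
    Nonempty (X ≃* PSp m F))
  psu : RowFor57 p (fun X _ => ∃ (F : Type) (_ : Field F) (_ : Fintype F) (n q : ℕ), (p : F) ≠ 0 ∧
    Fintype.card F = q ^ 2 ∧ 3 ≤ n ∧ Nonempty (X ≃* PSU n F q))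
  oodd : RowFor57 p (fun X _ => ∃ (F : Type) (_ : Field F) (_ : Fintype F) (m : ℕ), (p : F) ≠ 0 ∧
    3 ≤ m ∧ Odd (Fintype.card F) ∧ Nonempty (X ≃* POmega F (quadFormOdd m F)))
  oplus : RowFor57 p (fun X _ => ∃ (F : Type) (_ : Field F) (_ : Fintype F) (m : ℕ), (p : F) ≠ 0 ∧
    4 ≤ m ∧ Nonempty (X ≃* POmega F (quadFormPlus m F)))
  ominus : RowFor57 p (fun X _ => ∃ (F : Type) (_ : Field F) (_ : Fintype F) (m : ℕ) (a b : F), (p : F) ≠ 0 ∧
    4 ≤ m ∧ (∀ z₁ z₂ : F, z₁ ^ 2 + a * z₁ * z₂ + b * z₂ ^ 2 = 0 → z₁ = 0 ∧ z₂ = 0) ∧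
    Nonempty (X ≃* POmega F (quadFormMinus (m - 1) F a b)))
  g2 : RowFor57 p (fun X _ => ∃ (F : Type) (_ : Field F) (_ : Fintype F), (p : F) ≠ 0 ∧ 3 ≤ Fintype.card F ∧
    Nonempty (X ≃* Lie.chevG2.group F))
  f4 : RowFor57 p (fun X _ => ∃ (F : Type) (_ : Field F) (_ : Fintype F), (p : F) ≠ 0 ∧ Nonempty (X ≃* Lie.chevF4.group F))
  e6 : RowFor57 p (fun X _ => ∃ (F : Type) (_ : Field F) (_ : Fintype F), (p : F) ≠ 0 ∧ Nonempty (X ≃* Lie.chevE6.group F))
  e7 : RowFor57 p (fun X _ => ∃ (F : Type) (_ : Field F) (_ : Fintype F), (p : F) ≠ 0 ∧ Nonempty (X ≃* Lie.chevE7.group F))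
  e8 : RowFor57 p (fun X _ => ∃ (F : Type) (_ : Field F) (_ : Fintype F), (p : F) ≠ 0 ∧ Nonempty (X ≃* Lie.chevE8.group F))
  te6 : RowFor57 p (fun X _ => ∃ (K : Type) (_ : Field K) (_ : Fintype K) (q : ℕ), (p : K) ≠ 0 ∧ IsPrimePow q ∧
    Fintype.card K = q ^ 2 ∧ Nonempty (X ≃* Lie.twistedE6 K q))
  td4 : RowFor57 p (fun X _ => ∃ (K : Type) (_ : Field K) (_ : Fintype K) (q : ℕ), (p : K) ≠ 0 ∧ IsPrimePow q ∧
    Fintype.card K = q ^ 3 ∧ Nonempty (X ≃* Lie.twistedD4 K q))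
  sz : RowFor57 p (fun X _ => Lie.IsoSuzuki X)
  ree : p ≠ 3 → RowFor57 p (fun X _ => Lie.IsoRee X)
  tf4 : RowFor57 p (fun X _ => Lie.Iso2F4 X)
  tits : RowFor57 p (fun X _ => Lie.IsoTits X)
  spor : RowFor57 p (fun X _ => IsSporadicGroup X)

end Cfsg.Agent.H685.BR
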