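import Cfsg.Agent.H706.RealRed
import Cfsg.Agent.H684.BlockQuot
import Cfsg.Agent.H846.RatB.Gal
import Cfsg.Agent.OddOrderCharacters.GaloisTwist
import Cfsg.Agent.H685.BR.Defs

/-!
# S4858 : the reduction, basic facts (helper685)

* `galc σ χ` : the Galois conjugate; it stays in the principal block (`galc_mem`).
* `Fix p χ`, `good_iff` : the condition on the values in terms of field automorphisms.
* `RB p M G` : `RatB0` with `Fix`; quotients, isomorphisms.
-/

set_option autoImplicit false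

open Cfsg
open scoped ComplexConjugate

namespace Cfsg.Agent.H685.BR

open Cfsg.Agent.H684.BlockTools Cfsg.Agent.S4490 Cfsg.Agent.H145.BR
open Cfsg.Agent.Characters (GaloisBasic.exists_pow_of_ringEquiv)

universe u

section
variable {G : Type*} [Group G] {p : ℕ} {M : Ideal AlgInt}

/-- The Galois conjugate of an irreducible character. -/
noncomputable def galc (σ : ℂ ≃+* ℂ) (χ : IrrCharacter G) : IrrCharacter G :=
  ⟨fun g => σ ((χ : G → ℂ) g), OddOrderCharacters.GaloisTwist.isIrrCharacter_map σ χ.2⟩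

theorem galc_apply (σ : ℂ ≃+* ℂ) (χ : IrrCharacter G) (g : G) :
    (galc σ χ : G → ℂ) g = σ ((χ : G → ℂ) g) := rfl

theorem centralizer_pow [Finite G] {m : ℕ} (hm : m.Coprime (Nat.card G)) (g : G) :
    Subgroup.centralizer ({g ^ m} : Set G) = Subgroup.centralizer ({g} : Set G) := by
  ext x
  rw [Subgroup.mem_centralizer_singleton_iff, Subgroup.mem_centralizer_singleton_iff]
  constructor
  · intro h
    obtain ⟨k, hk⟩ := exists_pow_eq_self_of_coprime (x := g) (n := m)
      (Nat.Coprime.coprime_dvd_right (orderOf_dvd_natCard g) hm)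
    have h1 : Commute x (g ^ m) := h
    have h2 := h1.pow_right k
    rw [hk] at h2
    exact h2
  · intro h
    have h1 : Commute x g := h
    exact h1.pow_right m

/-- The principal block is stable under field automorphisms. -/
theorem galc_mem [Finite G] (σ : ℂ ≃+* ℂ) {χ : IrrCharacter G} (h : χ ∈ principalBlock M G) :
    galc σ χ ∈ principalBlock M G := by
  obtain ⟨m, hm, hσ⟩ := Characters.GaloisBasic.exists_pow_of_ringEquiv (G := G) σ
  have h1 : SameBlock M (fun _ : G => (1 : ℂ)) (χ : G → ℂ) := h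
  show SameBlock M (fun _ : G => (1 : ℂ)) (galc σ χ : G → ℂ)
  intro g
  have h2 := h1 (g ^ m)
  have h3 : centralChar (fun _ : G => (1 : ℂ)) (g ^ m) = centralChar (fun _ : G => (1 : ℂ)) g := by
    rw [Blocks.Basic.centralChar_def, Blocks.Basic.centralChar_def, centralizer_pow hm]
  have h4 : centralChar (galc σ χ : G → ℂ) g = centralChar (χ : G → ℂ) (g ^ m) := by
    rw [Blocks.Basic.centralChar_def, Blocks.Basic.centralChar_def, centralizer_pow hm, galc_apply, galc_apply,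
      hσ _ (Blocks.Basic.irr_isCharacter χ.2), hσ _ (Blocks.Basic.irr_isCharacter χ.2), one_pow]
  rw [h3] at h2
  rw [h4]
  exact h2

/-- the automorphisms used -/
def Adm (p n : ℕ) (σ : ℂ ≃+* ℂ) : Prop := p = 3 → σ (H700.PRat.zet n) = H700.PRat.zet n

/-- the condition on the values in terms of automorphisms -/
def FixV (p : ℕ) {X : Type*} (χ : X → ℂ) : Prop :=
  (∀ g, (χ g).im = 0) ∧ ∃ n : ℕ, ¬ p ∣ n ∧ ∀ σ : ℂ ≃+* ℂ, Adm p n σ → ∀ g, σ (χ g) = χ g

end

theorem good_iff {G : Type u} [Group G] [Finite G] {p : ℕ} [hp : Fact p.Prime] {χ : G → ℂ} (hχ : IsCharacter G χ) :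
    Good p χ ↔ FixV p χ := by
  have hint : ∀ g, IsIntegral ℚ (χ g) := H846.RatB.integral_irr hχ
  constructor
  · rintro ⟨h1, h2⟩
    by_cases hp3 : p = 3
    · obtain ⟨h3, h4⟩ := h2 hp3
      obtain ⟨n, hn, h5⟩ := (H846.RatB.pRatC_iff hint).1 h4
      exact ⟨h3, n, hn, fun σ hσ => h5 σ (hσ hp3)⟩
    · have h3 := h1 hp3
      refine ⟨fun g => ?_, 1, fun h => hp.out.one_lt.ne' (Nat.dvd_one.1 h), fun σ _ g => ?_⟩
      · obtain ⟨q, hq⟩ := h3 g
        rw [hq]
        exact Complex.ratCast_im q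
      · obtain ⟨q, hq⟩ := h3 g
        rw [hq, map_ratCast]
  · rintro ⟨h1, n, hn, h2⟩
    refine ⟨fun hp3 g => ?_, fun hp3 => ⟨h1, (H846.RatB.pRatC_iff hint).2 ⟨n, hn, fun σ hσ => h2 σ (fun _ => hσ)⟩⟩⟩
    exact Characters.GaloisBasic.exists_rat_of_forall_ringEquiv (hint g) fun σ =>
      h2 σ (fun h => absurd h hp3) g

/-- the property of `G` -/
def RB (p : ℕ) (M : Ideal AlgInt) (G : Type*) [Group G] : Prop :=
  ∃ χ : IrrCharacter G, χ ∈ principalBlock M G ∧ (χ : G → ℂ) ≠ (fun _ => (1 : ℂ)) ∧ FixV p (χ : G → ℂ)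

theorem rb_iff {G : Type u} [Group G] [Finite G] {p : ℕ} [Fact p.Prime] {M : Ideal AlgInt} :
    RB p M G ↔ RatB0 p M G := by
  constructor
  · rintro ⟨χ, h1, h2, h3⟩
    exact ⟨χ, h1, h2, (good_iff (Blocks.Basic.irr_isCharacter χ.2)).2 h3⟩
  · rintro ⟨χ, h1, h2, h3⟩
    exact ⟨χ, h1, h2, (good_iff (Blocks.Basic.irr_isCharacter χ.2)).1 h3⟩

section
variable {G : Type*} [Group G] {p : ℕ} {M : Ideal AlgInt}

theorem FixV.comp {X Y : Type*} {χ : X → ℂ} (h : FixV p χ) (f : Y → X) : FixV p (fun y => χ (f y)) := by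
  obtain ⟨h1, n, hn, h2⟩ := h
  exact ⟨fun g => h1 (f g), n, hn, fun σ hσ g => h2 σ hσ (f g)⟩

/-- a rational valued function -/
theorem fixV_of_rat [hp : Fact p.Prime] {X : Type*} {χ : X → ℂ} (h : ∀ g, ∃ q : ℚ, χ g = (q : ℂ)) : FixV p χ := by
  refine ⟨fun g => ?_, 1, fun h => hp.out.one_lt.ne' (Nat.dvd_one.1 h), fun σ _ g => ?_⟩
  · obtain ⟨q, hq⟩ := h g
    rw [hq]
    exact Complex.ratCast_im q
  · obtain ⟨q, hq⟩ := h g
    rw [hq, map_ratCast]

/-- The property passes from a quotient to the group. -/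
theorem RB.comp {H : Type*} [Group H] (hM : IsPModular p M) (f : G →* H)
    (hf : Function.Surjective f) (h : RB p M H) : RB p M G := by
  obtain ⟨χ, h1, h2, h3⟩ := h
  refine ⟨infl f hf χ, infl_mem hM f hf h1, fun h4 => h2 ?_, h3.comp f⟩
  funext x
  obtain ⟨g, rfl⟩ := hf x
  exact congrFun h4 g

theorem RB.iso {H : Type*} [Group H] (hM : IsPModular p M) (e : G ≃* H) (h : RB p M H) :
    RB p M G := h.comp hM e.toMonoidHom e.surjective

theorem RB.quot (hM : IsPModular p M) (N : Subgroup G) [N.Normal] (h : RB p M (G ⧸ N)) :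
    RB p M G := h.comp hM (QuotientGroup.mk' N) (QuotientGroup.mk'_surjective N)

theorem RB.realB0 (h : RB p M G) : H706.RealB.RealB0 M G := by
  obtain ⟨χ, h1, h2, h3⟩ := h
  exact ⟨χ, h1, h2, h3.1⟩

end

/-- transport of the row -/
theorem Row57.congr {p : ℕ} [Fact p.Prime] {S : Type u} [Group S] [Finite S] {T : Type*} [Group T] [Finite T]
    (e : S ≃* T) (h : Row57 p T) : Row57 p S := fun M hM =>
  rb_iff.1 ((rb_iff.2 (h M hM)).iso hM e)

end Cfsg.Agent.H685.BR
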