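import Mathlib

/-!
# A matrix of `p`-power order which is not similar to its inverse (helper685, for S4857)
-/

set_option autoImplicit false

open Matrix Polynomial

namespace Cfsg.Agent.H685.BR.OP

theorem aeval_map_matrix {K L : Type*} [Field K] [Field L] (ι : K →+* L) {w : ℕ} (A : Matrix (Fin w) (Fin w) K) (f : K[X]) :
    aeval (A.map ι) (f.map ι) = (aeval A f).map ι := by
  induction f using Polynomial.induction_on' with
  | add f g hf hg =>
    rw [Polynomial.map_add, map_add, hf, hg, map_add, Matrix.map_add ι (fun a b => map_add ι a b)]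
  | monomial n a =>
    rw [Polynomial.map_monomial, aeval_monomial, aeval_monomial]
    have h1 : (A.map ι) ^ n = (A ^ n).map ι := (map_pow ι.mapMatrix A n).symm
    rw [h1, Algebra.algebraMap_eq_smul_one, Algebra.algebraMap_eq_smul_one, smul_mul_assoc, one_mul, smul_mul_assoc, one_mul]
    ext i j
    simp [Matrix.map_apply, Matrix.smul_apply]

/-- the eigenvalues different from one -/
theorem exists_root {K L : Type*} [Field K] [Field L] [Algebra K L] [IsAlgClosed L] {N w : ℕ} (hN : (N : K) ≠ 0)
    {A : Matrix (Fin w) (Fin w) K} (hA : A ^ N = 1) (hA1 : A ≠ 1) :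
    ∃ z : L, z ≠ 1 ∧ z ^ N = 1 ∧ aeval z A.charpoly = 0 := by
  classical
  let ι : K →+* L := algebraMap K L
  have hdv : minpoly K A ∣ X ^ N - 1 := minpoly.dvd K A (by simp [hA])
  have hsep : (minpoly K A).Separable := by
    refine Polynomial.Separable.of_dvd ?_ hdv
    exact (Polynomial.X_pow_sub_one_separable_iff).2 hN
  have hmon : ((minpoly K A).map ι) ≠ 0 := (Polynomial.map_ne_zero (minpoly.ne_zero (Matrix.isIntegral A)))
  have hroot : ∃ z : L, z ≠ 1 ∧ z ∈ ((minpoly K A).map ι).roots := by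
    by_contra hcon
    push Not at hcon
    have hall : ∀ z ∈ ((minpoly K A).map ι).roots, z = 1 := fun z hz => by
      by_contra h1
      exact hcon z h1 hz
    apply hA1
    have hnd := nodup_roots (hsep.map (f := ι))
    have hspl := IsAlgClosed.splits ((minpoly K A).map ι)
    have hle : ((minpoly K A).map ι).roots ≤ {1} := by
      rw [Multiset.le_iff_subset hnd]
      intro z hz
      rw [hall z hz]
      exact Multiset.mem_singleton_self _
    have hdvd : ((minpoly K A).map ι) ∣ X - C 1 := by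
      have h1 : ((minpoly K A).map ι) = (((minpoly K A).map ι).roots.map (X - C ·)).prod :=
        hspl.eq_prod_roots_of_monic ((minpoly.monic (Matrix.isIntegral A)).map ι)
      rw [h1]
      have h2 := Multiset.prod_dvd_prod_of_le (Multiset.map_le_map (f := (fun a : L => X - C a)) hle)
      simpa using h2
    have h3 : aeval (A.map ι) ((minpoly K A).map ι) = 0 := by
      rw [aeval_map_matrix, minpoly.aeval]
      exact Matrix.map_zero _ (map_zero ι)
    obtain ⟨g, hg⟩ := hdvd
    have h4 : aeval (A.map ι) (X - C (1 : L)) = 0 := by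
      rw [hg, map_mul, h3, zero_mul]
    have h5 : A.map ι = 1 := by
      rw [map_sub, aeval_X, aeval_C, map_one] at h4
      exact sub_eq_zero.1 h4
    apply Matrix.map_injective ι.injective
    simp only
    rw [h5]
    exact (Matrix.map_one ι (map_zero ι) (map_one ι)).symm
  obtain ⟨z, hz1, hz⟩ := hroot
  have hz' : aeval z (minpoly K A) = 0 := by
    have := (mem_roots hmon).1 hz
    rwa [IsRoot.def, eval_map] at this
  refine ⟨z, hz1, ?_, ?_⟩
  · obtain ⟨g, hg⟩ := hdv
    have h1 : aeval z (X ^ N - 1 : K[X]) = 0 := by rw [hg, map_mul, hz', zero_mul]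
    rw [map_sub, map_pow, aeval_X, map_one] at h1
    exact sub_eq_zero.1 h1
  · obtain ⟨g, hg⟩ := Matrix.minpoly_dvd_charpoly A
    rw [hg, map_mul, hz', zero_mul]

/-- the roots are closed under inversion if the matrix is similar to its inverse -/
theorem root_inv {K L : Type*} [Field K] [Field L] [Algebra K L] {w : ℕ}
    {A B D : Matrix (Fin w) (Fin w) K} (hD : A * D = 1) (hB : IsUnit B) (h : B * A = Dᵀ * B) {z : L} (hz0 : z ≠ 0)
    (hz : aeval z A.charpoly = 0) : aeval z⁻¹ A.charpoly = 0 := by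
  classical
  let ι : K →+* L := algebraMap K L
  have h1 : A.charpoly = D.charpoly := by
    obtain ⟨U, rfl⟩ := hB
    have h2 : Dᵀ = U.val * A * U⁻¹.val := by
      rw [h, mul_assoc, Units.mul_inv, mul_one]
    rw [← Matrix.charpoly_transpose D, h2]
    have h3 := Matrix.charpoly_units_conj U A
    rw [← Matrix.coe_units_inv] at h3
    exact h3.symm
  have hev : ∀ (M : Matrix (Fin w) (Fin w) K) (x : L), aeval x M.charpoly = (Matrix.scalar (Fin w) x - M.map ι).det := by
    intro M x
    have h2 : aeval x M.charpoly = (M.map ι).charpoly.eval x := by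
      rw [aeval_def, ← eval_map, Matrix.charpoly_map]
    rw [h2, Matrix.eval_charpoly]
  rw [h1, hev]
  rw [hev] at hz
  have hD' : A.map ι * D.map ι = 1 := by
    rw [← Matrix.map_mul, hD, Matrix.map_one ι (map_zero ι) (map_one ι)]
  have hD'' : D.map ι * A.map ι = 1 := mul_eq_one_comm.1 hD'
  have h2 : Matrix.scalar (Fin w) z⁻¹ - D.map ι = D.map ι * ((-z⁻¹) • (Matrix.scalar (Fin w) z - A.map ι)) := by
    have h3 : Matrix.scalar (Fin w) z⁻¹ = z⁻¹ • (1 : Matrix (Fin w) (Fin w) L) := by
      rw [Matrix.smul_one_eq_diagonal]; rfl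
    have h4 : Matrix.scalar (Fin w) z = z • (1 : Matrix (Fin w) (Fin w) L) := by
      rw [Matrix.smul_one_eq_diagonal]; rfl
    rw [h3, h4, smul_sub, mul_sub, Matrix.mul_smul, Matrix.mul_smul, Matrix.mul_smul, hD'', mul_one, smul_smul, neg_mul,
      inv_mul_cancel₀ hz0]
    module
  rw [h2, Matrix.det_mul, Matrix.det_smul, hz, mul_zero, mul_zero]

/-- a matrix of `p`-power order different from one, of size `< 2 d`, `d` odd the order of `q` modulo `p`, is not similar to
its inverse -/
theorem no_dual {K : Type*} [Field K] [Fintype K] {p w n : ℕ} [hp : Fact p.Prime] (hp2 : p ≠ 2) (hpK : (p : K) ≠ 0)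
    (hodd : Odd (orderOf ((Fintype.card K : ℕ) : ZMod p))) (hw : w < 2 * orderOf ((Fintype.card K : ℕ) : ZMod p))
    {A B D : Matrix (Fin w) (Fin w) K} (hA : A ^ p ^ n = 1) (hA1 : A ≠ 1) (hD : A * D = 1) (hB : IsUnit B)
    (h : B * A = Dᵀ * B) : False := by
  classical
  set q := Fintype.card K with hq
  set d := orderOf ((q : ℕ) : ZMod p) with hd
  obtain ⟨z, hz1, hzN, hz⟩ := exists_root (L := AlgebraicClosure K) (N := p ^ n) (by push_cast; exact pow_ne_zero _ hpK) hA hA1
  have hz0 : z ≠ 0 := by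
    rintro rfl
    rw [zero_pow (pow_ne_zero _ hp.out.ne_zero)] at hzN
    exact zero_ne_one hzN
  have hzi := root_inv hD hB h hz0 hz
  set f := A.charpoly with hf
  have hf0 : f ≠ 0 := (Matrix.charpoly_monic A).ne_zero
  -- Frobenius
  have hfr : ∀ x : AlgebraicClosure K, aeval x f = 0 → ∀ i, aeval (x ^ q ^ i) f = 0 := by
    intro x hx i
    induction i with
    | zero => rwa [pow_zero, pow_one]
    | succ i ih =>
      rw [pow_succ, pow_mul, ← expand_aeval, FiniteField.expand_card, map_pow, ih, zero_pow Fintype.card_ne_zero]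
  let u : (AlgebraicClosure K)ˣ := Units.mk0 z hz0
  obtain ⟨j, hj, hju⟩ := (Nat.dvd_prime_pow hp.out).1 (orderOf_dvd_of_pow_eq_one (x := u) (n := p ^ n) (by
    ext; simpa [u] using hzN))
  have hj0 : j ≠ 0 := by
    rintro rfl
    rw [pow_zero, orderOf_eq_one_iff] at hju
    exact hz1 (by simpa [u] using congrArg Units.val hju)
  let v := u ^ p ^ (j - 1)
  have hv : orderOf v = p := by
    have h1 : orderOf u = p ^ (j - 1) * p := by rw [hju, ← pow_succ, Nat.sub_add_cancel (Nat.one_le_iff_ne_zero.2 hj0)]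
    have := orderOf_pow_of_dvd (x := u) (n := p ^ (j - 1)) (pow_ne_zero _ hp.out.ne_zero) (by rw [h1]; exact Dvd.intro _ rfl)
    rw [this, h1, Nat.mul_div_cancel_left _ (pow_pos hp.out.pos _)]
  let sg : Bool → ℤ := fun b => if b then 1 else -1
  let F : Bool × Fin d → (AlgebraicClosure K)ˣ := fun x => (u ^ sg x.1) ^ q ^ (x.2 : ℕ)
  have hFinj : Function.Injective F := by
    rintro ⟨b, i⟩ ⟨b', i'⟩ e
    have e1 : (v ^ (sg b * (q : ℤ) ^ (i : ℕ))) = v ^ (sg b' * (q : ℤ) ^ (i' : ℕ)) := by
      have e2 : (F (b, i)) ^ p ^ (j - 1) = (F (b', i')) ^ p ^ (j - 1) := by rw [e]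
      have e3 : ∀ (b : Bool) (i : Fin d), (F (b, i)) ^ p ^ (j - 1) = v ^ (sg b * (q : ℤ) ^ (i : ℕ)) := by
        intro b i
        show ((u ^ sg b) ^ q ^ (i : ℕ)) ^ p ^ (j - 1) = (u ^ p ^ (j - 1)) ^ (sg b * (q : ℤ) ^ (i : ℕ))
        rw [← zpow_natCast, ← zpow_natCast, ← zpow_natCast, ← _root_.zpow_mul, ← _root_.zpow_mul, ← _root_.zpow_mul]
        congr 1
        push_cast
        ring
      rw [← e3, ← e3, e2]
    rw [zpow_eq_zpow_iff_modEq, hv, ← ZMod.intCast_eq_intCast_iff] at e1
    push_cast at e1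
    have hqd : ((q : ZMod p)) ^ d = 1 := pow_orderOf_eq_one _
    have hsd : ∀ b : Bool, ((sg b : ℤ) : ZMod p) ^ d = (sg b : ℤ) := by
      intro b
      cases b
      · show (((-1 : ℤ) : ZMod p)) ^ d = ((-1 : ℤ) : ZMod p)
        push_cast
        exact hodd.neg_one_pow
      · show (((1 : ℤ) : ZMod p)) ^ d = ((1 : ℤ) : ZMod p)
        push_cast
        exact one_pow _
    have e2 := congrArg (fun x : ZMod p => x ^ d) e1
    simp only [mul_pow, hsd] at e2
    rw [← pow_mul, ← pow_mul, mul_comm (i : ℕ), mul_comm (i' : ℕ), pow_mul, pow_mul, hqd, one_pow, one_pow, mul_one, mul_one] at e2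
    have hne : ((-1 : ℤ) : ZMod p) ≠ ((1 : ℤ) : ZMod p) := by
      push_cast
      intro h0
      have h1 : ((2 : ℕ) : ZMod p) = 0 := by
        push_cast
        linear_combination -h0
      rw [ZMod.natCast_eq_zero_iff] at h1
      exact hp2 ((Nat.prime_dvd_prime_iff_eq hp.out Nat.prime_two).1 h1)
    have hbb : b = b' := by
      cases b <;> cases b'
      · rfl
      · exact absurd e2 hne
      · exact absurd e2.symm hne
      · rfl
    subst hbb
    have hs0 : ((sg b : ℤ) : ZMod p) ≠ 0 := by
      cases b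
      · show ((-1 : ℤ) : ZMod p) ≠ 0
        push_cast
        exact neg_ne_zero.2 one_ne_zero
      · show ((1 : ℤ) : ZMod p) ≠ 0
        push_cast
        exact one_ne_zero
    have e3 := mul_left_cancel₀ hs0 e1
    have e4 : (i : ℕ) = (i' : ℕ) := pow_injOn_Iio_orderOf (by exact i.2) (by exact i'.2) e3
    rw [Fin.ext e4]
  have hFroot : ∀ x, ((F x : (AlgebraicClosure K)ˣ) : AlgebraicClosure K) ∈ (f.map (algebraMap K (AlgebraicClosure K))).roots.toFinset := by
    rintro ⟨b, i⟩
    rw [Multiset.mem_toFinset, mem_roots (Polynomial.map_ne_zero hf0), IsRoot.def, eval_map, ← aeval_def]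
    cases b
    · have := hfr _ hzi i
      simpa [F, sg, u] using this
    · have := hfr _ hz i
      simpa [F, sg, u] using this
  have hcard := Finset.card_le_card_of_injOn (s := Finset.univ) (t := (f.map (algebraMap K (AlgebraicClosure K))).roots.toFinset)
    (fun x : Bool × Fin d => ((F x : (AlgebraicClosure K)ˣ) : AlgebraicClosure K)) (fun x _ => hFroot x)
    (fun x _ y _ e => hFinj (Units.ext e))
  have h1 : (f.map (algebraMap K (AlgebraicClosure K))).roots.toFinset.card ≤ w := by
    refine (Multiset.toFinset_card_le _).trans ((card_roots' _).trans ?_)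
    rw [natDegree_map, hf, Matrix.charpoly_natDegree_eq_dim, Fintype.card_fin]
  rw [Finset.card_univ, Fintype.card_prod, Fintype.card_bool, Fintype.card_fin] at hcard
  omega

end Cfsg.Agent.H685.BR.OP
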