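import Cfsg.Agent.H636.BR.Fam
import Cfsg.Agent.H636.BR.OPlus
import Cfsg.Agent.H934.IdxCl
import Cfsg.Agent.H687.BR.CntPar
import Cfsg.Agent.H685.BR.RatBasic
import Cfsg.Agent.H685.BR.OPDual
import Cfsg.Agent.S0293
import Cfsg.Agent.H410.BR.OmInst

/-!
# S4857, S4858 : the field `oplus` (helper685)

`d` the order of `q` modulo `p`.  `d = 1` : helper314; `d` even: one family of maximal totally singular subspaces
(helper636), no invariance needed here; `d` odd, `m ≠ 2 d - 1, 2 d - 2` : the polar theorem (helper636, helper31, helper623);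
`d` odd, `m = 2 d - 1, 2 d - 2` (cyclic Sylow subgroups): one family again, `row57_cyc` : the Sylow subgroup has two fixed
points in the family, which are not conjugate under its centralizer.

* `row57_oplus` : `Row57 p (POmega F (quadFormPlus m F))`, `4 ≤ m`, `p ∤ q`;
* `oplus_of` : the field, given the cyclicity of the Sylow subgroups (helper35).
-/

set_option autoImplicit false
set_option linter.unusedSectionVars false
set_option linter.unusedVariables false

namespace Cfsg.Agent.H685.BR.OP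

open Module QuadraticMap Cfsg Cfsg.Agent.H2.Pol Cfsg.Agent.H674.BR Cfsg.Agent.H410.BR Cfsg.Agent.H145.BR Cfsg.Agent.H636.BR
open Cfsg.Agent.Characters Cfsg.Agent.Characters.Core Cfsg.Agent.H934.IdxCl Matrix
open Cfsg.Agent.LieClassical Cfsg.Agent.LieClassical.OrthCore Cfsg.Agent.LieClassical.OrthForms
  Cfsg.Agent.LieClassical.OrthTrans Cfsg.Agent.LieClassical.OrthFinite

/-! ### The criterion without invariance -/

section Crit

universe u v

variable {S : Type u} [Group S] [Finite S] {p : ℕ} [hp : Fact p.Prime]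

/-- one transitive action with integer valued constituents -/
theorem row57_of_cnt [Fintype S] (P : Sylow p S) (X : Type v) [Finite X] [Nonempty X] [MulAction S X]
    [MulAction.IsPretransitive S X]
    (hZ : ∀ χ : IrrCharacter S, classInner (permC S X) (χ : S → ℂ) ≠ 0 → ∀ g, ∃ k : ℤ, (χ : S → ℂ) g = k)
    (h : ¬ cnt (P : Subgroup S) X ≡ 1 [MOD p]) : Row57 p S := by
  intro M hM
  obtain ⟨χ, h1, h2, -, h4, -⟩ := exists_of_count ({()} : Finset Unit) (fun _ => X) (fun _ => 1) hM P ⊥ IsPGroup.of_bot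
    (fun a ha g => by rw [Subgroup.mem_bot.1 ha]; rfl) (by
      rw [Finset.sum_singleton, Finset.sum_singleton, card_orb_one, one_mul, one_mul]
      intro h1
      exact h ((Int.natCast_modEq_iff).1 h1))
  rw [gpc_single] at h4
  exact ⟨χ, h1, h2, good_of_int (hZ χ h4)⟩

theorem cnt_congr {P : Subgroup S} {X Y : Type*} [MulAction S X] [MulAction S Y] (e : X ≃ Y)
    (he : ∀ (g : S) (x : X), e (g • x) = g • e x) : cnt P X = cnt P Y := by
  unfold cnt
  let f : {x : X // ∀ g ∈ P, g • x = x} ≃ {y : Y // ∀ g ∈ P, g • y = y} :=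
    e.subtypeEquiv fun x => by
      constructor
      · intro h g hg
        rw [← he, h g hg]
      · intro h g hg
        have h1 := h g hg
        rw [← he] at h1
        exact e.injective h1
  refine Nat.card_congr (Quot.congr f fun x y => ?_)
  constructor
  · rintro ⟨c, hc, h⟩
    refine ⟨c, hc, ?_⟩
    show c • e x.1 = e y.1
    rw [← he, h]
  · rintro ⟨c, hc, h⟩
    refine ⟨c, hc, ?_⟩
    have h1 : c • e x.1 = e y.1 := h
    rw [← he] at h1
    exact e.injective h1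

/-- two fixed points of a cyclic Sylow subgroup which are not conjugate under its centralizer -/
theorem not_modEq_of_two (P : Sylow p S) (hP : IsCyclic P) (X : Type v) [Finite X] [MulAction S X]
    [MulAction.IsPretransitive S X] {x y : X} (hx : ∀ g ∈ (P : Subgroup S), g • x = x)
    (hy : ∀ g ∈ (P : Subgroup S), g • y = y)
    (h : ∀ c ∈ Subgroup.centralizer ((P : Subgroup S) : Set S), c • x ≠ y) : ¬ cnt (P : Subgroup S) X ≡ 1 [MOD p] := by
  classical
  have h1 : ¬ p ∣ (MulAction.stabilizer S x).index := by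
    intro hd
    have h2 : (P : Subgroup S) ≤ MulAction.stabilizer S x := fun g hg => hx g hg
    exact P.not_dvd_index (hd.trans (Subgroup.index_dvd_of_le h2))
  have h2 : cnt (P : Subgroup S) X = cnt (P : Subgroup S) (S ⧸ MulAction.stabilizer S x) := by
    have e := MulAction.orbitEquivQuotientStabilizer S x
    let e' : X ≃ MulAction.orbit S x :=
      (Equiv.Set.univ X).symm.trans (Equiv.setCongr (MulAction.orbit_eq_univ S x).symm)
    refine cnt_congr (e'.trans (MulAction.orbitEquivQuotientStabilizer S x)) ?_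
    intro g z
    obtain ⟨k, rfl⟩ := MulAction.exists_smul_eq S x z
    have h3 : ∀ k : S, (e'.trans (MulAction.orbitEquivQuotientStabilizer S x)) (k • x) =
        ((k : S) : S ⧸ MulAction.stabilizer S x) := by
      intro k
      rw [Equiv.trans_apply, ← Equiv.eq_symm_apply]
      apply Subtype.ext
      rw [MulAction.orbitEquivQuotientStabilizer_symm_apply]
      rfl
    rw [smul_smul, h3, h3]
    rfl
  have h3 := Cfsg.Agent.H687.BR.cnt_dvd_pred P hP h1
  rw [← h2] at h3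
  have h4 : 1 < cnt (P : Subgroup S) X := by
    unfold cnt
    rw [Finite.one_lt_card_iff_nontrivial]
    refine ⟨⟨Quot.mk _ ⟨x, hx⟩, Quot.mk _ ⟨y, hy⟩, fun h5 => ?_⟩⟩
    rw [Cfsg.Agent.H687.BR.quot_eq_iff] at h5
    obtain ⟨c, hc, e⟩ := h5
    exact h c hc e
  intro h5
  have h6 : cnt (P : Subgroup S) X ≤ p - 1 := Nat.le_of_dvd (by have := hp.out.two_le; omega) h3
  have h7 := hp.out.two_le
  rw [Nat.ModEq, Nat.mod_eq_of_lt (by omega), Nat.mod_eq_of_lt (by omega)] at h5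
  omega

end Crit

/-! ### A Sylow subgroup of `POmega F (quadFormPlus w F)`, `d` odd -/

section Syl

variable {p : ℕ} [hp : Fact p.Prime] {F : Type} [Field F] [Fintype F] {w : ℕ}

/-- `GL_w(F)` acts by isometries -/
noncomputable def glIso (w : ℕ) (F : Type) [Field F] : GL (Fin w) F →* Cfsg.isometryGroup F ⇑(plusForm w F) :=
  (lev w F).toHomUnits.codRestrict _ (fun A => by
    intro u v
    show plusForm w F (lev w F A *ᵥ u) = plusForm w F u
    rw [coe_plusForm]
    exact quadFormPlus_lev A u)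

theorem glIso_injective : Function.Injective (glIso w F) := by
  intro A B h
  have h1 : (lev w F).toHomUnits A = (lev w F).toHomUnits B := congrArg Subtype.val h
  exact lev_injective (congrArg Units.val h1)

theorem good_plus (hw : 4 ≤ w) : Cfsg.Agent.LieClassical.OrthTrans.Good (plusForm w F) := (typ_plus F (by omega)).good (by
  rw [Fintype.card_sum, Fintype.card_fin]
  omega)

/-- elements of odd order are squares -/
theorem exists_sq {G : Type*} [Group G] {x : G} {N : ℕ} (hN : Odd N) (h : x ^ N = 1) : ∃ k : ℕ, x ^ k * x ^ k = x := by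
  obtain ⟨j, hj⟩ := hN
  refine ⟨j + 1, ?_⟩
  rw [← pow_add]
  have : j + 1 + (j + 1) = N + 1 := by omega
  rw [this, pow_succ, h, one_mul]

theorem odd_pow (hp2 : p ≠ 2) (n : ℕ) : Odd (p ^ n) := (hp.out.odd_of_ne_two hp2).pow

/-- the Sylow subgroup of `GL_w(F)` in `Omega` -/
noncomputable def sylOm (hp2 : p ≠ 2) (hw : 4 ≤ w) (P₀ : Sylow p (GL (Fin w) F)) : (P₀ : Subgroup (GL (Fin w) F)) →*
    Cfsg.Omega F ⇑(plusForm w F) :=
  ((glIso w F).comp (P₀ : Subgroup (GL (Fin w) F)).subtype).codRestrict _ (fun A => by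
    obtain ⟨n, hn⟩ := P₀.isPGroup' A
    obtain ⟨k, hk⟩ := exists_sq (odd_pow hp2 n) hn
    rw [← hk, map_mul]
    exact sq_mem_omega (good_plus hw) _)

theorem sylOm_coe (hp2 : p ≠ 2) (hw : 4 ≤ w) (P₀ : Sylow p (GL (Fin w) F)) (A : (P₀ : Subgroup (GL (Fin w) F))) :
    ((sylOm hp2 hw P₀ A : Cfsg.Omega F ⇑(plusForm w F)) : Cfsg.isometryGroup F ⇑(plusForm w F)) = glIso w F A := rfl

theorem sylOm_apply (hp2 : p ≠ 2) (hw : 4 ≤ w) (P₀ : Sylow p (GL (Fin w) F)) (A : (P₀ : Subgroup (GL (Fin w) F)))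
    (v : Fin w ⊕ Fin w → F) : omRho (plusForm w F) (sylOm hp2 hw P₀ A) v = lev w F A.1 *ᵥ v := rfl

theorem sylOm_injective (hp2 : p ≠ 2) (hw : 4 ≤ w) (P₀ : Sylow p (GL (Fin w) F)) :
    Function.Injective (sylOm hp2 hw P₀) := by
  intro A B h
  exact Subtype.ext (glIso_injective (congrArg Subtype.val h))

/-- the same in `POmega` -/
noncomputable def sylPO (hp2 : p ≠ 2) (hw : 4 ≤ w) (P₀ : Sylow p (GL (Fin w) F)) : (P₀ : Subgroup (GL (Fin w) F)) →*
    Cfsg.POmega F ⇑(plusForm w F) := (omPi (plusForm w F)).comp (sylOm hp2 hw P₀)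

theorem sylPO_injective (hp2 : p ≠ 2) (hw : 4 ≤ w) (P₀ : Sylow p (GL (Fin w) F)) :
    Function.Injective (sylPO hp2 hw P₀) := by
  rw [injective_iff_map_eq_one]
  intro A hA
  have h1 : sylOm hp2 hw P₀ A ∈ Subgroup.center (Cfsg.Omega F ⇑(plusForm w F)) := by
    have h2 : omPi (plusForm w F) (sylOm hp2 hw P₀ A) = 1 := hA
    rwa [QuotientGroup.mk'_apply, QuotientGroup.eq_one_iff] at h2
  have h2 := center_sq (good_plus hw) h1
  rw [← map_mul] at h2
  have h3 : A * A = 1 := sylOm_injective hp2 hw P₀ (by rw [h2, map_one])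
  obtain ⟨n, hn⟩ := P₀.isPGroup' A
  obtain ⟨k, hk⟩ := exists_sq (odd_pow hp2 n) hn
  rw [← hk, ← pow_add, ← two_mul, pow_mul, pow_two, h3, one_pow]

theorem not_dvd_card (hpF : (p : F) ≠ 0) : ¬ p ∣ Fintype.card F := by
  intro h
  obtain ⟨r, hr⟩ := CharP.exists F
  obtain ⟨n, hrp, hn⟩ := FiniteField.card F r
  rw [hn] at h
  have h1 : p = r := (Nat.prime_dvd_prime_iff_eq hp.out hrp).1 (hp.out.dvd_of_dvd_pow h)
  subst h1
  exact hpF (CharP.cast_eq_zero F p)

theorem fac_eq (hp2 : p ≠ 2) (hpF : (p : F) ≠ 0) (hw : 4 ≤ w) (hodd : Odd (orderOf ((Fintype.card F : ℕ) : ZMod p))) :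
    (Nat.card (Cfsg.POmega F ⇑(plusForm w F))).factorization p = (Nat.card (GL (Fin w) F)).factorization p := by
  set q := Fintype.card F with hq
  have hq1 : 1 < q := Fintype.one_lt_card
  have hpq : ¬ p ∣ q := not_dvd_card hpF
  have hne : ∀ i : ℕ, 0 < i → q ^ i - 1 ≠ 0 := fun i hi => by
    have := Nat.one_lt_pow hi.ne' hq1
    omega
  have hplus : ∀ i : ℕ, (q ^ i + 1).factorization p = 0 := fun i =>
    Nat.factorization_eq_zero_of_not_dvd (Cfsg.Agent.H31.BR.Arith.not_dvd_add_one hp2 hodd i)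
  have hqf : ∀ i : ℕ, (q ^ i).factorization p = 0 := fun i =>
    Nat.factorization_eq_zero_of_not_dvd fun h => hpq (hp.out.dvd_of_dvd_pow h)
  have hcard := Cfsg.Agent.S0293.result (F := F) rfl w hw
  rw [← coe_plusForm] at hcard
  have hg0 : Nat.gcd 4 (q ^ w - 1) ≠ 0 := (Nat.gcd_pos_of_pos_left _ (by norm_num)).ne'
  have hgf : (Nat.gcd 4 (q ^ w - 1)).factorization p = 0 := by
    refine Nat.factorization_eq_zero_of_not_dvd fun h => ?_
    have h1 : p ∣ 2 ^ 2 := h.trans (Nat.gcd_dvd_left _ _)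
    exact hp2 ((Nat.prime_dvd_prime_iff_eq hp.out Nat.prime_two).1 (hp.out.dvd_of_dvd_pow h1))
  have hN0 : Nat.card (Cfsg.POmega F ⇑(plusForm w F)) ≠ 0 := Nat.card_pos.ne'
  have h1 : (Nat.gcd 4 (q ^ w - 1) * Nat.card (Cfsg.POmega F ⇑(plusForm w F))).factorization p =
      (q ^ (w * (w - 1)) * (q ^ w - 1) * ∏ i ∈ Finset.range (w - 1), (q ^ (2 * (i + 1)) - 1)).factorization p :=
    congrArg (fun n => n.factorization p) hcard
  have hprod0 : ∏ i ∈ Finset.range (w - 1), (q ^ (2 * (i + 1)) - 1) ≠ 0 :=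
    Finset.prod_ne_zero_iff.2 fun i _ => hne _ (by omega)
  rw [Nat.factorization_mul hg0 hN0, Finsupp.add_apply, hgf, zero_add,
    Nat.factorization_mul (mul_ne_zero (pow_ne_zero _ (by omega)) (hne _ (by omega))) hprod0, Finsupp.add_apply,
    Nat.factorization_mul (pow_ne_zero _ (by omega)) (hne _ (by omega)), Finsupp.add_apply, hqf, zero_add,
    Nat.factorization_prod (fun i _ => hne _ (by omega)), Finsupp.finsetSum_apply] at h1
  have hGL : Nat.card (GL (Fin w) F) = ∏ i : Fin w, (q ^ w - q ^ (i : ℕ)) := Matrix.card_GL_field w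
  have hGL0 : ∀ i : Fin w, q ^ w - q ^ (i : ℕ) ≠ 0 := fun i => by
    have : q ^ (i : ℕ) < q ^ w := Nat.pow_lt_pow_right hq1 i.2
    omega
  rw [h1, hGL, Nat.factorization_prod (fun i _ => hGL0 i), Finsupp.finsetSum_apply]
  have h2 : ∀ i : Fin w, (q ^ w - q ^ (i : ℕ)).factorization p = (q ^ (w - i) - 1).factorization p := by
    intro i
    have h3 : q ^ w - q ^ (i : ℕ) = q ^ (i : ℕ) * (q ^ (w - i) - 1) := by
      rw [Nat.mul_sub, mul_one, ← pow_add, Nat.add_sub_cancel' i.2.le]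
    have := i.2
    rw [h3, Nat.factorization_mul (pow_ne_zero _ (by omega)) (hne _ (by omega)), Finsupp.add_apply, hqf, zero_add]
  rw [Finset.sum_congr rfl (fun i _ => h2 i), Fin.sum_univ_eq_sum_range (fun i => (q ^ (w - i) - 1).factorization p) w]
  have h4 : ∑ i ∈ Finset.range w, (q ^ (w - i) - 1).factorization p =
      ∑ i ∈ Finset.range w, (q ^ (i + 1) - 1).factorization p := by
    rw [← Finset.sum_range_reflect (fun i => (q ^ (i + 1) - 1).factorization p) w]
    refine Finset.sum_congr rfl fun i hi => ?_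
    have := Finset.mem_range.1 hi
    have h5 : w - i = w - 1 - i + 1 := by omega
    rw [h5]
  rw [h4]
  obtain ⟨v, rfl⟩ : ∃ v, w = v + 1 := ⟨w - 1, by omega⟩
  rw [Finset.sum_range_succ, add_comm, Nat.add_sub_cancel]
  congr 1
  refine Finset.sum_congr rfl fun i _ => ?_
  have h5 : q ^ (2 * (i + 1)) - 1 = (q ^ (i + 1) - 1) * (q ^ (i + 1) + 1) := by
    rw [mul_comm 2, pow_mul, ← one_pow 2, Nat.sq_sub_sq, one_pow, mul_comm]
  rw [h5, Nat.factorization_mul (hne _ (by omega)) (by omega), Finsupp.add_apply, hplus, add_zero]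

/-- **a Sylow subgroup** -/
noncomputable def sylS (hp2 : p ≠ 2) (hpF : (p : F) ≠ 0) (hw : 4 ≤ w) (hodd : Odd (orderOf ((Fintype.card F : ℕ) : ZMod p)))
    (P₀ : Sylow p (GL (Fin w) F)) : Sylow p (Cfsg.POmega F ⇑(plusForm w F)) :=
  Sylow.ofCard (sylPO hp2 hw P₀).range (by
    rw [fac_eq hp2 hpF hw hodd, ← P₀.card_eq_multiplicity]
    exact (Nat.card_congr (MonoidHom.ofInjective (sylPO_injective hp2 hw P₀)).toEquiv).symm)

theorem mem_sylS (hp2 : p ≠ 2) (hpF : (p : F) ≠ 0) (hw : 4 ≤ w) (hodd : Odd (orderOf ((Fintype.card F : ℕ) : ZMod p)))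
    (P₀ : Sylow p (GL (Fin w) F)) {g : Cfsg.POmega F ⇑(plusForm w F)} :
    g ∈ (sylS hp2 hpF hw hodd P₀ : Subgroup (Cfsg.POmega F ⇑(plusForm w F))) ↔ ∃ A, omPi (plusForm w F) (sylOm hp2 hw P₀ A) = g :=
  Iff.rfl

end Syl

/-! ### The two fixed points -/

section Pts

variable {p : ℕ} [hp : Fact p.Prime] {F : Type} [Field F] [Fintype F] {w : ℕ}

/-- the first half -/
def inL (w : ℕ) (F : Type) [Field F] : (Fin w → F) →ₗ[F] (Fin w ⊕ Fin w → F) where
  toFun x := Sum.elim x 0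
  map_add' x y := by ext (i | i) <;> simp
  map_smul' c x := by ext (i | i) <;> simp

/-- the second half -/
def inR (w : ℕ) (F : Type) [Field F] : (Fin w → F) →ₗ[F] (Fin w ⊕ Fin w → F) where
  toFun x := Sum.elim 0 x
  map_add' x y := by ext (i | i) <;> simp
  map_smul' c x := by ext (i | i) <;> simp

omit [Fintype F] in
theorem inL_injective : Function.Injective (inL w F) := fun x y h => by
  ext i
  exact congrFun h (Sum.inl i)

omit [Fintype F] in
theorem inR_injective : Function.Injective (inR w F) := fun x y h => by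
  ext i
  exact congrFun h (Sum.inr i)

omit [Fintype F] in
theorem Q_inL (x : Fin w → F) : plusForm w F (inL w F x) = 0 := by
  rw [coe_plusForm]
  simp [Cfsg.quadFormPlus, inL]

omit [Fintype F] in
theorem Q_inR (x : Fin w → F) : plusForm w F (inR w F x) = 0 := by
  rw [coe_plusForm]
  simp [Cfsg.quadFormPlus, inR]

/-- the first maximal totally singular subspace -/
def WL (w : ℕ) (F : Type) [Field F] : (quadPol (plusForm w F)).X w :=
  ⟨LinearMap.range (inL w F), ti_of_sing _ (by rintro _ ⟨x, rfl⟩; exact Q_inL x), by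
    rw [LinearMap.finrank_range_of_inj inL_injective, Module.finrank_fintype_fun_eq_card, Fintype.card_fin]⟩

/-- the second maximal totally singular subspace -/
def WR (w : ℕ) (F : Type) [Field F] : (quadPol (plusForm w F)).X w :=
  ⟨LinearMap.range (inR w F), ti_of_sing _ (by rintro _ ⟨x, rfl⟩; exact Q_inR x), by
    rw [LinearMap.finrank_range_of_inj inR_injective, Module.finrank_fintype_fun_eq_card, Fintype.card_fin]⟩

omit [Fintype F] in
theorem lev_inL (A : GL (Fin w) F) (x : Fin w → F) : lev w F A *ᵥ inL w F x = inL w F (A.1 *ᵥ x) := by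
  rw [lev_mulVec]
  have h1 : (inL w F x) ∘ Sum.inl = x := rfl
  have h2 : (inL w F x) ∘ Sum.inr = 0 := rfl
  rw [h1, h2, mulVec_zero]
  rfl

omit [Fintype F] in
theorem lev_inR (A : GL (Fin w) F) (x : Fin w → F) :
    lev w F A *ᵥ inR w F x = inR w F (((A⁻¹ : GL (Fin w) F) : Matrix (Fin w) (Fin w) F)ᵀ *ᵥ x) := by
  rw [lev_mulVec]
  have h1 : (inR w F x) ∘ Sum.inl = 0 := rfl
  have h2 : (inR w F x) ∘ Sum.inr = x := rfl
  rw [h1, h2, mulVec_zero]
  rfl

omit [Fintype F] in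
theorem inter : (WL w F).1 ⊓ (WR w F).1 = ⊥ := by
  rw [eq_bot_iff]
  rintro v ⟨⟨x, rfl⟩, ⟨y, hy⟩⟩
  have h1 : x = 0 := by
    ext i
    have := congrFun hy (Sum.inl i)
    exact this.symm
  rw [Submodule.mem_bot, h1, map_zero]

omit [Fintype F] in
theorem same_LR : same (WL w F) (WR w F) ↔ Even w := by
  unfold same
  rw [inter, finrank_bot, zero_add]

omit [Fintype F] in
theorem map_eq_of_le' {V : Type*} [AddCommGroup V] [Module F V] [FiniteDimensional F V] (g : V ≃ₗ[F] V)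
    {U : Submodule F V} (h : U.map (g : V →ₗ[F] V) ≤ U) : U.map (g : V →ₗ[F] V) = U :=
  Submodule.eq_of_le_of_finrank_eq h (LinearEquiv.finrank_map_eq g U)

theorem fixL (hp2 : p ≠ 2) (hw : 4 ≤ w) (P₀ : Sylow p (GL (Fin w) F)) (A : (P₀ : Subgroup (GL (Fin w) F))) :
    omO (good_plus hw) (sylOm hp2 hw P₀ A) • WL w F = WL w F := by
  apply Subtype.ext
  show (WL w F).1.map (omRho (plusForm w F) (sylOm hp2 hw P₀ A) : (Fin w ⊕ Fin w → F) →ₗ[F] (Fin w ⊕ Fin w → F)) = (WL w F).1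
  apply map_eq_of_le'
  rintro _ ⟨_, ⟨x, rfl⟩, rfl⟩
  exact ⟨_, (lev_inL A.1 x).symm⟩

theorem fixR (hp2 : p ≠ 2) (hw : 4 ≤ w) (P₀ : Sylow p (GL (Fin w) F)) (A : (P₀ : Subgroup (GL (Fin w) F))) :
    omO (good_plus hw) (sylOm hp2 hw P₀ A) • WR w F = WR w F := by
  apply Subtype.ext
  show (WR w F).1.map (omRho (plusForm w F) (sylOm hp2 hw P₀ A) : (Fin w ⊕ Fin w → F) →ₗ[F] (Fin w ⊕ Fin w → F)) = (WR w F).1
  apply map_eq_of_le'
  rintro _ ⟨_, ⟨x, rfl⟩, rfl⟩
  exact ⟨_, (lev_inR A.1 x).symm⟩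

/-- a fixed vector of the Sylow subgroup of `GL_w(F)` -/
theorem exists_fixed (hpF : (p : F) ≠ 0) (P₀ : Sylow p (GL (Fin w) F))
    (hdw : ¬ orderOf ((Fintype.card F : ℕ) : ZMod p) ∣ w) :
    ∃ a : Fin w → F, a ≠ 0 ∧ ∀ A : (P₀ : Subgroup (GL (Fin w) F)), A.1.1 *ᵥ a = a := by
  classical
  have hne : ∀ (A : GL (Fin w) F) (a : Fin w → F), a ≠ 0 → A.1 *ᵥ a ≠ 0 := by
    intro A a ha h
    apply ha
    have h1 : (A⁻¹).1 *ᵥ (A.1 *ᵥ a) = a := by
      rw [mulVec_mulVec, ← Units.val_mul, inv_mul_cancel, Units.val_one, one_mulVec]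
    rw [← h1, h, mulVec_zero]
  let act : MulAction (P₀ : Subgroup (GL (Fin w) F)) {a : Fin w → F // a ≠ 0} :=
    { smul := fun A a => ⟨A.1.1 *ᵥ a.1, hne _ _ a.2⟩
      one_smul := fun a => Subtype.ext (one_mulVec _)
      mul_smul := fun A B a => Subtype.ext (by
        show (A.1 * B.1).1 *ᵥ a.1 = A.1.1 *ᵥ (B.1.1 *ᵥ a.1)
        rw [mulVec_mulVec, Units.val_mul]) }
  have hcard : ¬ p ∣ Nat.card {a : Fin w → F // a ≠ 0} := by
    have h1 : Nat.card {a : Fin w → F // a ≠ 0} = Fintype.card F ^ w - 1 := by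
      rw [Nat.card_eq_fintype_card, Fintype.card_subtype_compl, Fintype.card_subtype_eq]
      simp
    rw [h1, Cfsg.Agent.H31.BR.Arith.dvd_sub_one Fintype.card_pos]
    exact hdw
  obtain ⟨a, ha⟩ := P₀.isPGroup'.nonempty_fixed_point_of_prime_not_dvd_card _ hcard
  exact ⟨a.1, a.2, fun A => congrArg Subtype.val (ha A)⟩

/-- a nonsingular fixed vector -/
theorem exists_nonsing (hpF : (p : F) ≠ 0) (P₀ : Sylow p (GL (Fin w) F))
    (hdw : ¬ orderOf ((Fintype.card F : ℕ) : ZMod p) ∣ w) :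
    ∃ v : Fin w ⊕ Fin w → F, plusForm w F v ≠ 0 ∧ ∀ A : (P₀ : Subgroup (GL (Fin w) F)), lev w F A.1 *ᵥ v = v := by
  classical
  obtain ⟨a, ha0, ha⟩ := exists_fixed hpF P₀ hdw
  have _ := Fintype.ofFinite (P₀ : Subgroup (GL (Fin w) F))
  set e : Matrix (Fin w) (Fin w) F := ∑ A : (P₀ : Subgroup (GL (Fin w) F)), A.1.1 with he
  set N := Fintype.card (P₀ : Subgroup (GL (Fin w) F)) with hN
  have hN0 : (N : F) ≠ 0 := by
    obtain ⟨n, hn⟩ := IsPGroup.iff_card.1 P₀.isPGroup'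
    rw [hN, ← Nat.card_eq_fintype_card, hn]
    push_cast
    exact pow_ne_zero _ hpF
  have hAe : ∀ A : (P₀ : Subgroup (GL (Fin w) F)), A.1.1 * e = e := by
    intro A
    rw [he, Finset.mul_sum]
    exact Fintype.sum_equiv (Equiv.mulLeft A) _ _ fun B => rfl
  have heA : ∀ A : (P₀ : Subgroup (GL (Fin w) F)), e * A.1.1 = e := by
    intro A
    rw [he, Finset.sum_mul]
    exact Fintype.sum_equiv (Equiv.mulRight A) _ _ fun B => rfl
  have hee : e * e = (N : F) • e := by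
    nth_rw 1 [he]
    rw [Finset.sum_mul, Finset.sum_congr rfl fun A _ => hAe A, Finset.sum_const, Finset.card_univ, ← hN]
    exact (Nat.cast_smul_eq_nsmul F N e).symm
  have hea : e *ᵥ a = (N : F) • a := by
    rw [he, Matrix.sum_mulVec, Finset.sum_congr rfl fun A _ => ha A, Finset.sum_const, Finset.card_univ, ← hN]
    exact (Nat.cast_smul_eq_nsmul F N a).symm
  obtain ⟨i, j, hij⟩ : ∃ i j, e i j ≠ 0 := by
    by_contra hcon
    push Not at hcon
    have h1 : e = 0 := Matrix.ext hcon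
    rw [h1, zero_mulVec] at hea
    exact (smul_ne_zero hN0 ha0) hea.symm
  refine ⟨Sum.elim (e *ᵥ Pi.single j 1) (eᵀ *ᵥ Pi.single i 1), ?_, fun A => ?_⟩
  · rw [coe_plusForm]
    have h1 : Cfsg.quadFormPlus w F (Sum.elim (e *ᵥ Pi.single j 1) (eᵀ *ᵥ Pi.single i 1)) =
        (e *ᵥ Pi.single j 1) ⬝ᵥ (eᵀ *ᵥ Pi.single i 1) := rfl
    rw [h1, mulVec_transpose, dotProduct_comm, ← dotProduct_mulVec, mulVec_mulVec, hee, smul_mulVec,
      dotProduct_smul, smul_eq_mul]
    refine mul_ne_zero hN0 ?_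
    rw [single_one_dotProduct, mulVec_single_one, col_apply]
    exact hij
  · rw [lev_mulVec]
    have h1 : (Sum.elim (e *ᵥ Pi.single j 1) (eᵀ *ᵥ Pi.single i 1) : Fin w ⊕ Fin w → F) ∘ Sum.inl = e *ᵥ Pi.single j 1 := rfl
    have h2 : (Sum.elim (e *ᵥ Pi.single j 1) (eᵀ *ᵥ Pi.single i 1) : Fin w ⊕ Fin w → F) ∘ Sum.inr = eᵀ *ᵥ Pi.single i 1 := rfl
    rw [h1, h2, mulVec_mulVec, mulVec_mulVec, hAe, ← transpose_mul]
    have h3 : e * (((A.1)⁻¹ : GL (Fin w) F) : Matrix (Fin w) (Fin w) F) = e := heA A⁻¹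
    rw [h3]

/-- the second fixed point -/
theorem exists_rho (hpF : (p : F) ≠ 0) (hw : 4 ≤ w) (P₀ : Sylow p (GL (Fin w) F))
    (h : Even w ∨ ¬ orderOf ((Fintype.card F : ℕ) : ZMod p) ∣ w) :
    ∃ ρ : O (plusForm w F), same (WL w F) (ρ • WR w F) ∧
      ∀ (A : (P₀ : Subgroup (GL (Fin w) F))) (v : Fin w ⊕ Fin w → F),
        ρ.1 (lev w F A.1 *ᵥ v) = lev w F A.1 *ᵥ (ρ.1 v) := by
  have hT : Typ (plusForm w F) w 0 := typ_plus F (by omega)
  rcases Nat.even_or_odd w with he | ho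
  · refine ⟨1, ?_, fun A v => rfl⟩
    rw [one_smul, same_LR]
    exact he
  · have hdw := h.resolve_left (Nat.not_even_iff_odd.2 ho)
    obtain ⟨v, hv, hA⟩ := exists_nonsing hpF P₀ hdw
    refine ⟨⟨refl (plusForm w F) v hv, refl_mem_O hv⟩, ?_, fun A x => ?_⟩
    · have h1 := not_same_refl hT hv (WR w F)
      rw [same_iff hT (WL w F) (WR w F), same_LR]
      have h2 := Nat.not_even_iff_odd.2 ho
      tauto
    · show refl (plusForm w F) v hv (lev w F A.1 *ᵥ x) = lev w F A.1 *ᵥ (refl (plusForm w F) v hv x)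
      have h1 : polar (plusForm w F) v (lev w F A.1 *ᵥ x) = polar (plusForm w F) v x := by
        have h2 : ∀ u : Fin w ⊕ Fin w → F, plusForm w F (lev w F A.1 *ᵥ u) = plusForm w F u := fun u => by
          rw [coe_plusForm]
          exact quadFormPlus_lev A.1 u
        conv_lhs => rw [← hA A]
        unfold polar
        rw [← mulVec_add, h2, h2, h2]
      rw [refl_apply, refl_apply, h1, mulVec_sub, mulVec_smul, hA A]

end Pts

/-! ### The row -/

section Row

variable {p : ℕ} [hp : Fact p.Prime] {F : Type} [Field F] [Fintype F] {w : ℕ}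

/-- an element of `POmega` centralizing the Sylow subgroup lifts to an element centralizing its preimage -/
theorem comm_of_cent (hp2 : p ≠ 2) (hw : 4 ≤ w) (P₀ : Sylow p (GL (Fin w) F)) (c : Cfsg.Omega F ⇑(plusForm w F))
    (A : (P₀ : Subgroup (GL (Fin w) F)))
    (h : omPi (plusForm w F) (sylOm hp2 hw P₀ A) * omPi (plusForm w F) c =
      omPi (plusForm w F) c * omPi (plusForm w F) (sylOm hp2 hw P₀ A)) :
    sylOm hp2 hw P₀ A * c = c * sylOm hp2 hw P₀ A := by
  set a := sylOm hp2 hw P₀ A with ha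
  obtain ⟨n, hn⟩ := P₀.isPGroup' A
  have han : a ^ p ^ n = 1 := by rw [ha, ← map_pow, hn, map_one]
  have hz : a⁻¹ * (c⁻¹ * a * c) ∈ Subgroup.center (Cfsg.Omega F ⇑(plusForm w F)) := by
    rw [← QuotientGroup.eq_one_iff]
    show omPi (plusForm w F) (a⁻¹ * (c⁻¹ * a * c)) = 1
    rw [map_mul, map_mul, map_mul, map_inv, map_inv, mul_assoc (omPi (plusForm w F) c)⁻¹, h, ← mul_assoc (omPi (plusForm w F) c)⁻¹,
      inv_mul_cancel, one_mul, inv_mul_cancel]
  have h2 := center_sq (good_plus hw) hz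
  have hcomm : Commute a (a⁻¹ * (c⁻¹ * a * c)) := (Subgroup.mem_center_iff.1 hz a)
  have h3 : (c⁻¹ * a * c) ^ p ^ n = 1 := by
    have : c⁻¹ * a * c = c⁻¹ * a * c⁻¹⁻¹ := by rw [inv_inv]
    rw [this, conj_pow, han, mul_one, mul_inv_cancel]
  have h4 : c⁻¹ * a * c = a * (a⁻¹ * (c⁻¹ * a * c)) := by rw [mul_inv_cancel_left]
  rw [h4, hcomm.mul_pow, han, one_mul] at h3
  obtain ⟨k, hk⟩ := exists_sq (odd_pow hp2 n) h3
  have h5 : a⁻¹ * (c⁻¹ * a * c) = 1 := by
    rw [← hk, ← pow_add, ← two_mul, pow_mul, pow_two, h2, one_pow]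
  have h6 : c⁻¹ * a * c = a := by
    rw [h4, h5, mul_one]
  calc a * c = c * (c⁻¹ * a * c) := by group
    _ = c * a := by rw [h6]

/-- **the two fixed points are not conjugate** -/
theorem not_conj (hp2 : p ≠ 2) (hpF : (p : F) ≠ 0) (hw : 4 ≤ w)
    (hodd : Odd (orderOf ((Fintype.card F : ℕ) : ZMod p))) (h1 : w < 2 * orderOf ((Fintype.card F : ℕ) : ZMod p))
    (h2 : orderOf ((Fintype.card F : ℕ) : ZMod p) ≤ w) (P₀ : Sylow p (GL (Fin w) F)) (ρ : O (plusForm w F))
    (hρ : ∀ (A : (P₀ : Subgroup (GL (Fin w) F))) (v : Fin w ⊕ Fin w → F),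
        ρ.1 (lev w F A.1 *ᵥ v) = lev w F A.1 *ᵥ (ρ.1 v))
    (c : Cfsg.Omega F ⇑(plusForm w F)) (hc : ∀ A : (P₀ : Subgroup (GL (Fin w) F)),
      sylOm hp2 hw P₀ A * c = c * sylOm hp2 hw P₀ A)
    (e : omO (good_plus hw) c • WL w F = ρ • WR w F) : False := by
  classical
  -- a nontrivial element
  obtain ⟨A, hA⟩ : ∃ A : (P₀ : Subgroup (GL (Fin w) F)), A ≠ 1 := by
    by_contra hcon
    push Not at hcon
    have h3 : Nat.card (P₀ : Subgroup (GL (Fin w) F)) = 1 := by
      rw [Nat.card_eq_one_iff_unique]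
      exact ⟨⟨fun a b => (hcon a).trans (hcon b).symm⟩, ⟨1⟩⟩
    have h4 : p ∣ Nat.card (GL (Fin w) F) := by
      have h5 : Nat.card (GL (Fin w) F) = ∏ i : Fin w, (Fintype.card F ^ w - Fintype.card F ^ (i : ℕ)) :=
        Matrix.card_GL_field w
      have h6 : 0 < orderOf ((Fintype.card F : ℕ) : ZMod p) := hodd.pos
      rw [h5]
      refine dvd_trans ?_ (Finset.dvd_prod_of_mem _ (Finset.mem_univ (⟨w - orderOf ((Fintype.card F : ℕ) : ZMod p), by omega⟩ : Fin w)))
      show p ∣ Fintype.card F ^ w - Fintype.card F ^ (w - orderOf ((Fintype.card F : ℕ) : ZMod p))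
      have h7 : Fintype.card F ^ w - Fintype.card F ^ (w - orderOf ((Fintype.card F : ℕ) : ZMod p)) =
          Fintype.card F ^ (w - orderOf ((Fintype.card F : ℕ) : ZMod p)) *
            (Fintype.card F ^ orderOf ((Fintype.card F : ℕ) : ZMod p) - 1) := by
        rw [Nat.mul_sub, mul_one, ← pow_add, Nat.sub_add_cancel h2]
      rw [h7]
      exact ((Cfsg.Agent.H31.BR.Arith.dvd_sub_one Fintype.card_pos _).2 dvd_rfl).mul_left _
    rw [P₀.card_eq_multiplicity] at h3
    have h5 := hp.out.factorization_pos_of_dvd Nat.card_pos.ne' h4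
    have h6 := Nat.one_lt_pow h5.ne' hp.out.one_lt
    omega
  obtain ⟨n, hn⟩ := P₀.isPGroup' A
  have hAn : A.1.1 ^ p ^ n = 1 := by
    have h3 := congrArg (fun x : (P₀ : Subgroup (GL (Fin w) F)) => x.1.1) hn
    simpa using h3
  have hA1 : A.1.1 ≠ 1 := fun h3 => hA (Subtype.ext (Units.ext h3))
  have hAD : A.1.1 * ((A.1⁻¹ : GL (Fin w) F) : Matrix (Fin w) (Fin w) F) = 1 := by
    rw [← Units.val_mul, mul_inv_cancel, Units.val_one]
  -- the linear map
  set g := omRho (plusForm w F) c with hg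
  have hgA : ∀ v, g (lev w F A.1 *ᵥ v) = lev w F A.1 *ᵥ (g v) := by
    intro v
    have h3 := congrArg (fun x => omRho (plusForm w F) x v) (hc A)
    simp only [map_mul, LinearEquiv.mul_apply, sylOm_apply] at h3
    exact h3.symm
  have hmem : ∀ x : Fin w → F, ∃ y : Fin w → F, ρ.1 (inR w F y) = g (inL w F x) := by
    intro x
    have h3 : g (inL w F x) ∈ (ρ • WR w F).1 := by
      rw [← e]
      exact ⟨_, ⟨x, rfl⟩, rfl⟩
    obtain ⟨_, ⟨y, rfl⟩, e'⟩ := h3
    exact ⟨y, e'⟩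
  let prR : (Fin w ⊕ Fin w → F) →ₗ[F] (Fin w → F) :=
    { toFun := fun v => v ∘ Sum.inr
      map_add' := fun _ _ => rfl
      map_smul' := fun _ _ => rfl }
  let B : (Fin w → F) →ₗ[F] (Fin w → F) :=
    prR ∘ₗ ((ρ.1⁻¹ : (Fin w ⊕ Fin w → F) ≃ₗ[F] (Fin w ⊕ Fin w → F)) : (Fin w ⊕ Fin w → F) →ₗ[F] (Fin w ⊕ Fin w → F)) ∘ₗ
      (g : (Fin w ⊕ Fin w → F) →ₗ[F] (Fin w ⊕ Fin w → F)) ∘ₗ inL w F
  have hB : ∀ x, ρ.1 (inR w F (B x)) = g (inL w F x) := by
    intro x
    obtain ⟨y, hy⟩ := hmem x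
    have h3 : B x = y := by
      show prR (ρ.1⁻¹ (g (inL w F x))) = y
      rw [← hy]
      have h4 : ρ.1⁻¹ (ρ.1 (inR w F y)) = inR w F y := by
        rw [← LinearEquiv.mul_apply, inv_mul_cancel]
        rfl
      rw [h4]
      rfl
    rw [h3, hy]
  have hBinj : Function.Injective B := by
    intro x y hxy
    have h3 := hB x
    rw [hxy, hB y] at h3
    exact inL_injective (g.injective h3.symm)
  have hBA : ∀ x, B (A.1.1 *ᵥ x) = (((A.1⁻¹ : GL (Fin w) F) : Matrix (Fin w) (Fin w) F)ᵀ) *ᵥ (B x) := by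
    intro x
    apply inR_injective (w := w) (F := F)
    apply ρ.1.injective
    rw [hB, ← lev_inL, hgA, ← hB, ← hρ, lev_inR]
  have hBu : IsUnit (LinearMap.toMatrix' B) :=
    ((LinearMap.isUnit_iff_ker_eq_bot B).2 (LinearMap.ker_eq_bot.2 hBinj)).map
      (LinearMap.toMatrixAlgEquiv' : ((Fin w → F) →ₗ[F] (Fin w → F)) ≃ₐ[F] _)
  refine no_dual hp2 hpF hodd h1 hAn hA1 hAD hBu ?_
  apply Matrix.toLin'.injective
  rw [Matrix.toLin'_mul, Matrix.toLin'_mul, Matrix.toLin'_toMatrix']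
  exact LinearMap.ext hBA

/-- **the row** `PΩ⁺_{2w}(q)`, `d` odd, `d ≤ w < 2d` -/
theorem row57_cyc (hp2 : p ≠ 2) (hpF : (p : F) ≠ 0) (hw : 4 ≤ w)
    (hodd : Odd (orderOf ((Fintype.card F : ℕ) : ZMod p))) (h1 : w < 2 * orderOf ((Fintype.card F : ℕ) : ZMod p))
    (h2 : orderOf ((Fintype.card F : ℕ) : ZMod p) ≤ w) (h3 : Even w ∨ orderOf ((Fintype.card F : ℕ) : ZMod p) < w)
    (hcyc : ∀ P : Sylow p (Cfsg.POmega F ⇑(plusForm w F)), IsCyclic P) : Row57 p (Cfsg.POmega F ⇑(plusForm w F)) := by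
  classical
  obtain ⟨P₀⟩ : Nonempty (Sylow p (GL (Fin w) F)) := inferInstance
  have hT : Typ (plusForm w F) w 0 := typ_plus F (by omega)
  have hG := good_plus (F := F) hw
  have _ : Finite ((Fin w ⊕ Fin w → F) ≃ₗ[F] (Fin w ⊕ Fin w → F)) := finite_lin
  have _ := Fintype.ofFinite (Cfsg.POmega F ⇑(plusForm w F))
  obtain ⟨ρ, hs, hρ⟩ := exists_rho hpF hw P₀ (h3.imp id fun h4 hd => by
    obtain ⟨k, hk⟩ := hd
    have h6 : 0 < orderOf ((Fintype.card F : ℕ) : ZMod p) := hodd.pos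
    rcases k with _ | _ | k
    · omega
    · omega
    · have : 2 * orderOf ((Fintype.card F : ℕ) : ZMod p) ≤ w := by
        rw [hk]
        nlinarith
      omega)
  let act := famS hT hG (WL w F)
  have _ := famS_pretransitive hT hG (WL w F)
  have _ : Nonempty (Fam (WL w F)) := ⟨⟨WL w F, same_self _⟩⟩
  refine row57_of_cnt (sylS hp2 hpF hw hodd P₀) (Fam (WL w F)) (fun χ h0 s => famS_int hT hG (WL w F) χ h0 s) ?_
  refine not_modEq_of_two _ (hcyc _) (Fam (WL w F)) (x := ⟨WL w F, same_self _⟩) (y := ⟨ρ • WR w F, hs⟩) ?_ ?_ ?_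
  · rintro g hg
    obtain ⟨A, rfl⟩ := (mem_sylS hp2 hpF hw hodd P₀).1 hg
    apply Subtype.ext
    rw [famS_smul]
    exact fixL hp2 hw P₀ A
  · rintro g hg
    obtain ⟨A, rfl⟩ := (mem_sylS hp2 hpF hw hodd P₀).1 hg
    apply Subtype.ext
    rw [famS_smul]
    show omO hG (sylOm hp2 hw P₀ A) • (ρ • WR w F) = ρ • WR w F
    have h4 : omO hG (sylOm hp2 hw P₀ A) * ρ = ρ * omO hG (sylOm hp2 hw P₀ A) := by
      apply Subtype.ext
      apply LinearEquiv.ext
      intro v
      exact (hρ A v).symm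
    rw [smul_smul, h4, ← smul_smul]
    congr 1
    exact fixR hp2 hw P₀ A
  · intro c hc e
    obtain ⟨c', rfl⟩ := omPi_surj (Q := plusForm w F) c
    have h4 : ∀ A : (P₀ : Subgroup (GL (Fin w) F)), sylOm hp2 hw P₀ A * c' = c' * sylOm hp2 hw P₀ A := by
      intro A
      refine comm_of_cent hp2 hw P₀ c' A ?_
      exact Subgroup.mem_centralizer_iff.1 hc _ ((mem_sylS hp2 hpF hw hodd P₀).2 ⟨A, rfl⟩)
    have h5 := congrArg Subtype.val e
    rw [famS_smul] at h5
    exact not_conj hp2 hpF hw hodd h1 h2 P₀ ρ hρ c' h4 h5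

/-- `p` divides the number of maximal totally singular subspaces -/
theorem row57_fam {ι : Type} [Fintype ι] [DecidableEq ι] {Q : QuadraticForm F (ι → F)} {m : ℕ} (hp2 : p ≠ 2)
    (h : Typ Q m 0) (hG : Cfsg.Agent.LieClassical.OrthTrans.Good Q) (hd : p ∣ Nat.card ((quadPol Q).X m)) :
    Row57 p (Cfsg.POmega F ⇑Q) := by
  have _ : Finite ((ι → F) ≃ₗ[F] (ι → F)) := finite_lin
  have hpos := h.card_X_pos (le_refl m)
  obtain ⟨U0⟩ : Nonempty ((quadPol Q).X m) := (Nat.card_pos_iff.1 hpos).1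
  have _ := Fintype.ofFinite (Cfsg.POmega F ⇑Q)
  let _ := famS h hG U0
  have _ := famS_pretransitive h hG U0
  have _ : Nonempty (Fam U0) := ⟨⟨U0, same_self U0⟩⟩
  have hd' : p ∣ Nat.card (Fam U0) := by
    rw [← card_fam h hG U0] at hd
    rcases hp.out.dvd_mul.1 hd with h1 | h1
    · exact absurd ((Nat.prime_dvd_prime_iff_eq hp.out Nat.prime_two).1 h1) hp2
    · exact h1
  obtain ⟨P⟩ : Nonempty (Sylow p (Cfsg.POmega F ⇑Q)) := inferInstance
  refine row57_of_cnt P (Fam U0) (fun χ h0 s => famS_int h hG U0 χ h0 s) ?_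
  rw [Cfsg.Agent.H31.BR.cnt_eq_zero P hd']
  intro h1
  have h2 := (Nat.modEq_iff_dvd' (Nat.zero_le 1)).1 h1
  exact hp.out.one_lt.ne' (Nat.dvd_one.1 h2)

/-- **`PΩ⁺_{2m}(q)`**, `m ≥ 4`, `p ∤ q` -/
theorem row57_oplus {m : ℕ} (hm : 4 ≤ m) (hp2 : p ≠ 2) (hpF : (p : F) ≠ 0)
    (hcyc : ∀ d : ℕ, orderOf ((Fintype.card F : ℕ) : ZMod p) = d → Odd d → (m = 2 * d - 1 ∨ m = 2 * d - 2) →
      ∀ P : Sylow p (Cfsg.POmega F (quadFormPlus m F)), IsCyclic P)
    (hd : p ∣ Nat.card (Cfsg.POmega F (quadFormPlus m F))) : Row57 p (Cfsg.POmega F (quadFormPlus m F)) := by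
  classical
  by_cases h1 : p ∣ Fintype.card F - 1
  · exact row57_of_rowInt (H314.RatB.OPlus.rowInt_oplus hp2 hm h1)
  have hpq := not_dvd_card hpF
  have hd2 : 2 ≤ orderOf ((Fintype.card F : ℕ) : ZMod p) := two_le_order hpq h1 Fintype.card_pos
  have ht := typ_plus F (m := m) (by omega)
  have hG := good_plus (F := F) hm
  have hS : p ∣ (Fintype.card F ^ m - 1) * ∏ i ∈ Finset.range (m - 1), (Fintype.card F ^ (2 * (i + 1)) - 1) := by
    have h2 := S0293.result (F := F) rfl m (by omega)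
    have h3 : p ∣ Fintype.card F ^ (m * (m - 1)) *
        ((Fintype.card F ^ m - 1) * ∏ i ∈ Finset.range (m - 1), (Fintype.card F ^ (2 * (i + 1)) - 1)) := by
      rw [← mul_assoc, ← h2]
      exact hd.mul_left _
    rcases hp.out.dvd_mul.1 h3 with h4 | h4
    · exact absurd (hp.out.dvd_of_dvd_pow h4) hpq
    · exact h4
  have hNF : Nat.card F = Fintype.card F := Nat.card_eq_fintype_card
  rcases Nat.even_or_odd (orderOf ((Fintype.card F : ℕ) : ZMod p)) with hev | hodd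
  · rw [← coe_plusForm]
    exact row57_fam hp2 ht hG (dvd_card_max (by omega) ht (by rwa [hNF]) (by rwa [hNF]) (by rwa [hNF]))
  · by_cases h2 : m = 2 * orderOf ((Fintype.card F : ℕ) : ZMod p) - 1 ∨ m = 2 * orderOf ((Fintype.card F : ℕ) : ZMod p) - 2
    · have hc := hcyc _ rfl hodd h2
      have hd3 : 3 ≤ orderOf ((Fintype.card F : ℕ) : ZMod p) := by
        obtain ⟨k, hk⟩ := hodd
        omega
      rw [← coe_plusForm] at hc ⊢
      refine row57_cyc hp2 hpF hm hodd (by omega) (by omega) ?_ hc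
      right
      omega
    · push Not at h2
      by_cases h5 : 5 ≤ m
      · exact row57_of_rowZ (rowZ_oplus_five h5 hp2 hpF hd (by rw [hNF]; exact fun _ _ => h2))
      · exfalso
        have h4 : m = 4 := by omega
        subst h4
        have h6 : orderOf ((Fintype.card F : ℕ) : ZMod p) ∣ 4 ∨ ∃ i < 3, orderOf ((Fintype.card F : ℕ) : ZMod p) ∣ 2 * (i + 1) := by
          rcases hp.out.dvd_mul.1 hS with h7 | h7
          · exact Or.inl ((dvd_pow_sub Fintype.card_pos).1 h7)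
          · obtain ⟨i, hi, h8⟩ := (Prime.dvd_finset_prod_iff hp.out.prime _).1 h7
            exact Or.inr ⟨i, Finset.mem_range.1 hi, (dvd_pow_sub Fintype.card_pos).1 h8⟩
        have hle : orderOf ((Fintype.card F : ℕ) : ZMod p) ≤ 6 := by
          rcases h6 with h7 | ⟨i, hi, h7⟩
          · have := Nat.le_of_dvd (by norm_num) h7
            omega
          · have := Nat.le_of_dvd (by omega) h7
            omega
        generalize orderOf ((Fintype.card F : ℕ) : ZMod p) = d at *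
        have h9 : d = 5 := by
          obtain ⟨k, hk⟩ := hodd
          omega
        subst h9
        rcases h6 with h7 | ⟨i, hi, h7⟩
        · omega
        · interval_cases i <;> omega

end Row

/-- **the field `oplus`**, given the cyclicity of the Sylow subgroups for `d` odd, `m = 2 d - 1, 2 d - 2` -/
theorem oplus_of {p : ℕ} [hp : Fact p.Prime] (hp2 : p ≠ 2)
    (hcyc : ∀ (F : Type) [Field F] [Fintype F] (m d : ℕ), 4 ≤ m → orderOf ((Fintype.card F : ℕ) : ZMod p) = d → Odd d →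
      (m = 2 * d - 1 ∨ m = 2 * d - 2) → ∀ P : Sylow p (Cfsg.POmega F (quadFormPlus m F)), IsCyclic P) :
    RowFor57 p (fun X _ => ∃ (F : Type) (_ : Field F) (_ : Fintype F) (m : ℕ), (p : F) ≠ 0 ∧
      4 ≤ m ∧ Nonempty (X ≃* POmega F (quadFormPlus m F))) := by
  intro X _ _ _ _ hd hX
  obtain ⟨F, _, _, m, hpF, hm, ⟨e⟩⟩ := hX
  refine Row57.congr e (row57_oplus hm hp2 hpF (fun d => hcyc F m d hm) ?_)
  rwa [← Nat.card_congr e.toEquiv]

end Cfsg.Agent.H685.BR.OP
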