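import Cfsg.Agent.H798.Oc.F4
import Cfsg.Agent.H932.OC.Tw
import Cfsg.Agent.H685.BR.Defs

/-!
# S4857, own characteristic: the integer valued rows of `G₂(q)`, `F₄(q)`, `E₆(q)`, `E₇(q)`, `E₈(q)`, `q` odd

The proofs are those of helper798 (`H798/Oc/Untw`, `H798/Oc/F4`), with the integer valued conclusion `OCInt`
of helper932.

* `rowForZ_exc` : `RowForZ p (IsExceptionalChevChar p)`, `p` odd.
-/

set_option autoImplicit false
set_option linter.unusedSectionVars false
set_option maxHeartbeats 400000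

namespace Cfsg.Agent.H685.BR.OcX

open CoxeterSystem Cfsg.Agent.ChevalleyStructure.CoxeterGeom Cfsg.Agent.Tits.Roots Cfsg.Agent.Tits.Core
  Cfsg.Agent.Nodes.Reps Cfsg.Agent.Nodes.BNOf Cfsg.Agent.Nodes.OppDec Cfsg.Agent.Nodes.RGDChev
  Cfsg.Agent.KFacts.RgdChevCoord Cfsg.Agent.Nodes.Bruhat Cfsg.Agent.Nodes.StabComb
open Cfsg.Agent.KFacts.RgdFilt Cfsg.Agent.KFacts.RgdBorelTits
open Cfsg.Lie Cfsg.Agent.ChevalleyStructure Cfsg.Agent.ChevalleyStructure.Elts
  Cfsg.Agent.ChevalleyStructure.NPerm Cfsg.Agent.ChevalleyStructure.CoxeterGeomTypes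
open Cfsg.Agent.ChevalleyStructure.RootVec (rt)
open Cfsg.Agent.ChevalleyStructure.UnipProd
open Cfsg.Agent.ChevalleyStructure.UnipOrd (isPosRoot_iff)
open Cfsg.Agent.H798.Oc.Sign Cfsg.Agent.H798.Oc.Ind Cfsg.Agent.H798.Oc.Main Cfsg.Agent.H798.Oc.Scal
  Cfsg.Agent.H798.Oc.Gen Cfsg.Agent.H798.Oc.Untw Cfsg.Agent.H239.OCTab Cfsg.Agent.H798.Oc.F4
open Cfsg.Agent.H993.OC Cfsg.Agent.H145.BR Cfsg.Agent.H932.OC
open scoped commutatorElement

section Chev

variable {D : ChevalleyDatum} {l : ℕ} {M : CoxeterMatrix (Fin l)}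

theorem ocint_chev (hp : IsType D l M) (hσ : CpAut.RgdUntw.SymTwo M) {r₀ : ℕ} {L : List ℕ} (h1 : chk D l r₀ L = true)
    (h2 : chkHigh D l r₀ = true) (h3 : chkMove D l r₀ = true) (p : ℕ) [Fact p.Prime] (hp2 : p ≠ 2)
    (K : Type) [Field K] [Finite K] [CharP K p] : OCInt p ↥(D.group K) := by
  intro Au hAu
  have hW : Finite M.Group := finite_W hp M.toCoxeterSystem
  have R := rgd (K := K) hp M.toCoxeterSystem p
  have hG := KFacts.RgdFilt.GG_eq_top (T := TT D K) (G1_eq_top (K := K) hp M.toCoxeterSystem)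
  have C := coords (K := K) hp M.toCoxeterSystem p
  obtain ⟨hx, hmax⟩ := high_root hp M.toCoxeterSystem h2
  obtain ⟨h0, -⟩ := high_spec h2
  have hodd : Odd (Nat.card K) := odd_card (p := p) hp2
  obtain ⟨u, i, hui⟩ := hx
  have hx : IsRoot M.toCoxeterSystem hp.isCartan (vec D l r₀) := ⟨u, i, hui⟩
  have hV : RGD.B M.toCoxeterSystem hp.isCartan (TT D K) (XX D l K) ≤
      Subgroup.normalizer (XX D l K (vec D l r₀) : Set ↥(D.group K)) := by
    refine le_trans ?_ (borel_le hp M.toCoxeterSystem h2 p)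
    exact sup_le_sup le_rfl (RGD.Sup_mono fun x hx => ⟨hx.1, hx.2, fun k hk => absurd (Set.mem_univ k) hk⟩)
  have hw₁ : rep M.toCoxeterSystem hp.isCartan u⁻¹ (vec D l r₀) = sr i := by
    rw [hui, ← rep_mul_apply, inv_mul_cancel, map_one, Module.End.one_apply]
  obtain ⟨θ, t1, t2, t3, t4, t5⟩ := main_root R hG hp2 hσ hx hV hw₁ (fun w hw => by
    refine sep hp M.toCoxeterSystem h1 (K := K) (exists_nonsquare hodd) w fun t ht => ?_
    have hr := hx.act (h := hp.isCartan) w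
    rw [← sv_eq_one_iff hodd (C.coord _ hr) ht, ← sv_eq_one_iff hodd (C.coord _ hx) ht, hw t ht])
    (move_spec hp M.toCoxeterSystem h0 h3) Au hAu
  exact ⟨θ, t1, t2, t3, t4, t5⟩

end Chev

theorem ocint_F4 (p : ℕ) [Fact p.Prime] (hp2 : p ≠ 2) (K : Type) [Field K] [Finite K] [CharP K p] :
    OCInt p ↥(chevF4.group K) := by
  intro Au hAu
  have hp := isType_F4
  obtain ⟨cs, hcs⟩ : ∃ cs, cs = (CoxeterMatrix.F₄).toCoxeterSystem := ⟨_, rfl⟩
  have hW : Finite (CoxeterMatrix.F₄).Group := finite_W hp cs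
  have R := rgd (K := K) hp cs p
  have hG := KFacts.RgdFilt.GG_eq_top (T := TT chevF4 K) (G1_eq_top (K := K) hp cs)
  have C := coords (K := K) hp cs p
  have hodd : Odd (Nat.card K) := odd_card (p := p) hp2
  have hI : IntComm cs hp.isCartan (XX chevF4 4 K) := by
    have h0 := KFacts.RgdFiltChev.intComm_GL (K := K) hp cs
    intro x y hx hy hxy hxy' a ha b hb
    have h2 := h0 x y hx hy hxy hxy' a ha b hb
    have h3 : FS (XX chevF4 4 K) {z | IB cs hp.isCartan x y z} =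
        (FS (XV chevF4 4 K) {z | IB cs hp.isCartan x y z}).subgroupOf (chevF4.group K) := by
      unfold FS
      rw [Nodes.RGDLib.iSup_subgroupOf]
      rintro ⟨z, hz⟩
      exact XV_le_group hp z
    rw [h3, Subgroup.mem_subgroupOf]
    exact h2
  set S : Set (Fin 4 → ℤ) := {x | IsRoot cs hp.isCartan x ∧ x 0 = 2} with hSdef
  have hroot : ∀ x, IsRoot cs hp.isCartan x → ∃ r < 48, vec chevF4 4 r = x := by
    intro x hx
    obtain ⟨r, hr, e⟩ := (isRoot_iff hp cs x).1 hx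
    exact ⟨r, by rwa [nroots_F4] at hr, e⟩
  have hvec : ∀ r < 48, IsRoot cs hp.isCartan (vec chevF4 4 r) := fun r hr =>
    isRoot_vec hp cs (by rwa [nroots_F4])
  have hle : ∀ x, IsRoot cs hp.isCartan x → x 0 ≤ 2 := by
    intro x hx
    obtain ⟨r, hr, rfl⟩ := hroot x hx
    exact (tab_le r hr).1
  have hSr : ∀ x ∈ S, IsRoot cs hp.isCartan x := fun x hx => hx.1
  have hS0 : ∀ x ∈ S, 0 ≤ x := by
    rintro x ⟨hx, hx0⟩
    by_contra hcon
    have h1 := (hx.not_nonneg_iff_neg).1 hcon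
    have h2 : (0 : ℤ) ≤ -x 0 := h1 0
    omega
  have hSvec : ∀ r < 48, 41 ≤ r → vec chevF4 4 r ∈ S := fun r hr h41 => ⟨hvec r hr, (tab_le r hr).2.2 h41⟩
  have hS' : ∀ x ∈ S, ∃ r < 48, 41 ≤ r ∧ vec chevF4 4 r = x := by
    rintro x ⟨hx, hx0⟩
    obtain ⟨r, hr, rfl⟩ := hroot x hx
    exact ⟨r, hr, (tab_le r hr).2.1 hx0, rfl⟩
  have hx44 : vec chevF4 4 44 ∈ S := hSvec 44 (by norm_num) (by norm_num)
  -- the stabilizer of `x₀`
  have hstab : ∀ w, rep cs hp.isCartan w (vec chevF4 4 44) = vec chevF4 4 44 → ∀ x ∈ S, rep cs hp.isCartan w x ∈ S := by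
    intro w hw x hx
    obtain ⟨r, hr, h41, rfl⟩ := hS' x hx
    refine ⟨hx.1.act w, ?_⟩
    have h1 : vec chevF4 4 r + vec chevF4 4 (88 - r) = (2 : ℤ) • vec chevF4 4 44 := by
      funext i
      exact tab_op r hr h41 i i.2
    have h2 := congrArg (rep cs hp.isCartan w) h1
    rw [map_add, map_smul, hw] at h2
    have h3 := congrFun h2 0
    have h4 := hle _ ((hvec r hr).act w)
    have h5 := hle _ ((hvec (88 - r) (by omega)).act w)
    have h6 : (rep cs hp.isCartan w (vec chevF4 4 r)) 0 + (rep cs hp.isCartan w (vec chevF4 4 (88 - r))) 0 =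
        2 * (vec chevF4 4 44) 0 := h3
    have h7 : (vec chevF4 4 44) 0 = 2 := hx44.2
    omega
  have hVL : RGD.Sup (XX chevF4 4 K) S = VL chevF4 4 K [41, 42, 43, 44, 45, 46, 47] := by
    apply le_antisymm
    · refine RGD.Sup_le fun x hx => ?_
      obtain ⟨r, hr, h41, rfl⟩ := hS' x hx
      refine le_VL ?_
      have : r = 41 ∨ r = 42 ∨ r = 43 ∨ r = 44 ∨ r = 45 ∨ r = 46 ∨ r = 47 := by omega
      simpa using this
    · refine VL_le fun r hr => RGD.le_Sup ?_
      have h1 : r = 41 ∨ r = 42 ∨ r = 43 ∨ r = 44 ∨ r = 45 ∨ r = 46 ∨ r = 47 := by simpa using hr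
      exact hSvec r (by omega) (by omega)
  have hpar : ∀ t ∈ TT chevF4 K, ∀ r < 48, 41 ≤ r →
      sv (XX chevF4 4 K (vec chevF4 4 r)) t = sv (XX chevF4 4 K (vec chevF4 4 (88 - r))) t := by
    intro t ht r hr h41
    refine sv_parity hp cs p hp2 ht (by rwa [nroots_F4]) (by rw [nroots_F4]; omega) fun i hi => ?_
    exact tab_par r hr h41 i (by rwa [rank_F4] at hi)
  obtain ⟨θ, t1, t2, t3, t4, t5⟩ := main_gen R hG hp2 CpAut.RgdUntw.symTwo_F4 (x₀ := vec chevF4 4 44) hx44.1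
    (hS0 _ hx44) (V := RGD.Sup (XX chevF4 4 K) S) (by
      refine sup_le (R.T_le_normalizer hSr) (RGD.Sup_le fun x hx => ?_)
      refine le_normalizer_int hI hx.1 fun y hy => ⟨hy.1, Or.inr ⟨?_, ?_⟩⟩
      · rintro rfl
        exact hy.1.neg.not_pos_neg hx.2 (neg_nonpos.2 (hS0 _ hy))
      · rintro z ⟨hz, a, b, ha, hb, e⟩
        refine ⟨hz, ?_⟩
        have h1 := hle z hz
        have h2 : z 0 = a * x 0 + b * y 0 := congrFun e 0
        have h3 : (0 : ℤ) ≤ x 0 := hx.2 0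
        have h4 : y 0 = 2 := hy.2
        rw [h4] at h2
        nlinarith)
    (RGD.Sup_mono fun x hx => ⟨hx.1, hS0 x hx⟩) (RGD.le_Sup (X := XX chevF4 4 K) hx44)
    (by
      intro w k hk hw
      have hw' : rep cs hp.isCartan w⁻¹ (vec chevF4 4 44) = vec chevF4 4 44 := by
        conv_lhs => rw [← hw]
        rw [← rep_mul_apply, inv_mul_cancel, map_one, Module.End.one_apply]
      rw [Subgroup.mem_normalizer_iff]
      intro v
      refine ⟨fun hv => conj_mem_Sup R hk hSr (hstab w hw) hv, fun hv => ?_⟩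
      have h1 := conj_mem_Sup R hk.inv hSr (hstab w⁻¹ hw') hv
      have e : k⁻¹ * (k * v * k⁻¹) * k⁻¹⁻¹ = v := by group
      rwa [e] at h1)
    (by
      intro t ht
      rw [hVL]
      obtain ⟨-, -, h1⟩ := sv_VL hp cs p hp2 ht (L := [41, 42, 43, 44, 45, 46, 47])
        (fun s hs => (isPosRoot_iff hp.inList s).2 (tab_pos s hs)) tab_comm
      rw [h1]
      have e1 := hpar t ht 41 (by norm_num) (by norm_num)
      have e2 := hpar t ht 42 (by norm_num) (by norm_num)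
      have e3 := hpar t ht 43 (by norm_num) (by norm_num)
      norm_num at e1 e2 e3
      simp only [List.map_cons, List.map_nil, List.prod_cons, List.prod_nil]
      rw [e1, e2, e3]
      generalize sv (XX chevF4 4 K (vec chevF4 4 47)) t = a
      generalize sv (XX chevF4 4 K (vec chevF4 4 46)) t = b
      generalize sv (XX chevF4 4 K (vec chevF4 4 45)) t = c
      generalize sv (XX chevF4 4 K (vec chevF4 4 44)) t = d
      revert a b c d
      decide)
    (by
      intro β hβ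
      unfold RGD.Sup
      rw [Subgroup.map_iSup]
      exact iSup_congr fun z => hβ _ z.2.1)
    (fun w hw => by
      refine sep hp cs chk_F4 (K := K) (exists_nonsquare hodd) w fun t ht => ?_
      have hr := hx44.1.act (h := hp.isCartan) w
      rw [← sv_eq_one_iff hodd (C.coord _ hr) ht, ← sv_eq_one_iff hodd (C.coord _ hx44.1) ht, hw t ht])
    (move_spec hp cs (by rw [nroots_F4]; norm_num) move_F4) Au hAu
  exact ⟨θ, t1, t2, t3, t4, t5⟩

section Rows

variable (p : ℕ) [Fact p.Prime] (hp2 : p ≠ 2) (K : Type) [Field K] [Finite K] [CharP K p]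

include hp2

theorem ocint_G2 : OCInt p ↥(chevG2.group K) :=
  ocint_chev (D := chevG2) (l := 2) (M := CoxeterMatrix.G₂) (by simp [IsType, typeList]) CpAut.RgdUntw.symTwo_G2
    chk_G2 high_G2 move_G2 p hp2 K

theorem ocint_E6 : OCInt p ↥(chevE6.group K) :=
  ocint_chev (D := chevE6) (l := 6) (M := CoxeterMatrix.E₆) (by simp [IsType, typeList]) CpAut.RgdUntw.symTwo_E6
    chk_E6 high_E6 move_E6 p hp2 K

theorem ocint_E7 : OCInt p ↥(chevE7.group K) :=
  ocint_chev (D := chevE7) (l := 7) (M := CoxeterMatrix.E₇) (by simp [IsType, typeList]) CpAut.RgdUntw.symTwo_E7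
    chk_E7 high_E7 move_E7 p hp2 K

theorem ocint_E8 : OCInt p ↥(chevE8.group K) :=
  ocint_chev (D := chevE8) (l := 8) (M := CoxeterMatrix.E₈) (by simp [IsType, typeList]) CpAut.RgdUntw.symTwo_E8
    chk_E8 high_E8 move_E8 p hp2 K

end Rows

/-- **The own characteristic row of `G₂(q)`, `F₄(q)`, `E₆(q)`, `E₇(q)`, `E₈(q)` in S4857.** -/
theorem rowForZ_exc {p : ℕ} [Fact p.Prime] (hp : p ≠ 2) :
    H145.BR.RowForZ p (fun X _ => Cfsg.IsExceptionalChevChar p X) := by
  intro X _ _ _ hna _ hX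
  have hL : Cfsg.IsLieTypeChar p X := by
    unfold Cfsg.IsLieTypeChar
    tauto
  obtain ⟨K, _, _, _, h⟩ := hX
  rcases h with ⟨-, h⟩ | h | h | h | h
  · obtain ⟨e⟩ := h
    exact ((ocint_G2 p hp K).of_equiv e).rowZ hp hna hL
  · obtain ⟨e⟩ := h
    exact ((ocint_F4 p hp K).of_equiv e).rowZ hp hna hL
  · obtain ⟨e⟩ := h
    exact ((ocint_E6 p hp K).of_equiv e).rowZ hp hna hL
  · obtain ⟨e⟩ := h
    exact ((ocint_E7 p hp K).of_equiv e).rowZ hp hna hL
  · obtain ⟨e⟩ := h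
    exact ((ocint_E8 p hp K).of_equiv e).rowZ hp hna hL

/-- the exceptional part of the own characteristic row of S4857 -/
theorem exc {p : ℕ} [Fact p.Prime] (hp : p ≠ 2) :
    RowFor57 p (fun X _ => Cfsg.IsExceptionalChevChar p X ∨ Cfsg.IsTwistedE6D4Char p X) := by
  intro X _ _ _ hna hd hX
  rcases hX with h | h
  · exact row57_of_rowZ (rowForZ_exc hp X hna hd h)
  · exact row57_of_rowZ (rowForZ_tw hp X hna hd h)

end Cfsg.Agent.H685.BR.OcX
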