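import Cfsg.Agent.H505.RatB.Tits
import Cfsg.Agent.H685.BR.Defs

/-!
# S4857, S4858 : the field `tits` (helper685, from helper505)
-/

set_option autoImplicit false

namespace Cfsg.Agent.H685.BR

open Cfsg Cfsg.Agent.H493.RatB

/-- `WitR` gives the row of S4857 -/
theorem row57_of_witR {p : ℕ} [Fact p.Prime] {S : Type*} [Group S] (h : WitR p S) : Row57 p S := by
  intro M hM
  obtain ⟨θ, h2, h3, -, h4⟩ := h M hM
  exact ⟨θ, h2, h3, good_of_rat h4⟩

/-- **the field `tits`** -/
theorem tits57 {p : ℕ} [hp : Fact p.Prime] (hp2 : p ≠ 2) : RowFor57 p (fun X _ => Lie.IsoTits X) := by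
  intro X _ _ _ _ hd hX
  rw [H707.RowTits.card_eq hX] at hd
  have h1 : p ∣ 1755 := by
    have h2 : p ∣ 2 ^ 11 * (5 * 1755) := by norm_num; exact hd
    rcases hp.out.dvd_mul.1 h2 with h3 | h3
    · exact absurd ((Nat.prime_dvd_prime_iff_eq hp.out Nat.prime_two).1 (hp.out.dvd_of_dvd_pow h3)) hp2
    · rcases hp.out.dvd_mul.1 h3 with h4 | h4
      · exact h4.trans (by norm_num)
      · exact h4
  exact row57_of_witR (H505.RatB.Tits.witR h1 hX)

end Cfsg.Agent.H685.BR
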