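import Cfsg.Agent.H652.RB.Own
import Cfsg.Agent.H583.BR.Alt
import Cfsg.Agent.H829.BR.PslFin
import Cfsg.Agent.H2.BR.PspRow
import Cfsg.Agent.H646.BR.URow
import Cfsg.Agent.H35.BR.OOdd
import Cfsg.Agent.H35.BR.OPlusCyc
import Cfsg.Agent.H410.BR.OMinusRow
import Cfsg.Agent.H932.BR.RowTd4
import Cfsg.Agent.H908.BR.RankOne
import Cfsg.Agent.H978.BR.TwF
import Cfsg.Agent.H498.RP.TwE6
import Cfsg.Agent.H687.BR.FinE67
import Cfsg.Agent.H687.BR.AssocE8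
import Cfsg.Agent.H852.RatB.Spor57Fin
import Cfsg.Agent.H685.BR.OPRow
import Cfsg.Agent.H685.BR.OcX
import Cfsg.Agent.H685.BR.ExcRows
import Cfsg.Agent.H685.BR.TitsRow

/-!
# S4857, S4858 : all the rows (helper685)

Rows by helpers 2, 35, 116, 287, 314, 410, 422, 498, 505, 541, 583, 636, 646, 652, 667, 685, 687, 796, 798, 829, 852, 908,
932, 978, 987, 993 and many others, see `tools/plans/S4857.md`.
-/

set_option autoImplicit false

namespace Cfsg.Agent.H685.BR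

open Cfsg Cfsg.Agent.H145.BR

/-- all rows -/
theorem rows57 {p : ℕ} [Fact p.Prime] (hp2 : p ≠ 2) : Rows57 p where
  alt := RowFor57.of_Z (H583.BR.Alt.rowForZ_alt p hp2)
  lie := H652.RB.own_row57 hp2 (OcX.exc hp2)
  psl := RowFor57.of_Z (H829.BR.psl hp2)
  psp := RowFor57.of_Z (H2.BR.rowForZ_psp hp2)
  psu := RowFor57.of_Z (H646.BR.U.rowForZ_psu hp2)
  oodd := RowFor57.of_Z (H35.BR.rowForZ_oodd hp2)
  oplus := OP.oplus_of hp2 fun _ _ _ _ _ hm hd hodd h => H35.BR.cyc_plus hm hd hodd h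
  ominus := RowFor57.of_Z (H410.BR.rowForZ_ominus hp2)
  g2 := Exc.g2 hp2
  f4 := Exc.f4 hp2
  e6 := H687.BR.row57_e6 hp2
  e7 := H687.BR.row57_e7 hp2
  e8 := H687.BR.row57_e8 hp2
  te6 := H498.RP.row57_te6 hp2
  td4 := RowFor57.of_Z (H932.BR.Td4.rowZ_td4 hp2)
  sz := RowFor57.of_Z (H908.BR.rowForZ_sz hp2)
  ree := fun hp3 => RowFor57.of_Z (H908.BR.rowForZ_ree hp3)
  tf4 := RowFor57.of_Z (H978.BR.rowForZ_tf4 hp2)
  tits := tits57 hp2
  spor := H852.RatB.Spor57.spor57_all hp2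

end Cfsg.Agent.H685.BR
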